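import Cfsg.Agent.Lib.Coprime.Abelian
import Cfsg.Agent.Lib.StructB.Misc

/-!
# Abelian groups acting on abelian groups: common stabilisers and twisted actions

Used for the theorem on groups whose nonlinear degrees do not divide one another.
-/

set_option autoImplicit false

namespace CfsgLib.BlockB.TwoComp

universe u v

variable {H : Type u} [Group H] {W : Type v} [CommGroup W] [MulDistribMulAction H W]

/-- `w ↦ (h • w) / w`. -/
def delta (h : H) : W →* W where
  toFun w := h • w / w
  map_one' := by simp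
  map_mul' v w := by rw [smul_mul', mul_div_mul_comm]

theorem delta_apply (h : H) (w : W) : delta h w = h • w / w := rfl

theorem delta_eq_one {h : H} {w : W} : delta h w = 1 ↔ h • w = w := div_eq_one

theorem smul_delta (hc : ∀ a b : H, a * b = b * a) (e h : H) (w : W) :
    e • delta h w = delta h (e • w) := by
  rw [delta_apply, delta_apply, smul_div', ← mul_smul, hc e h, mul_smul]

/-- If the stabilisers of the nontrivial elements are pairwise incomparable, they are all equal. -/
theorem common_stab [Finite W] (hc : ∀ a b : H, a * b = b * a)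
    (hinc : ∀ v w : W, v ≠ 1 → w ≠ 1 →
      MulAction.stabilizer H v ≤ MulAction.stabilizer H w →
      MulAction.stabilizer H v = MulAction.stabilizer H w) :
    ∀ v w : W, v ≠ 1 → w ≠ 1 → MulAction.stabilizer H v = MulAction.stabilizer H w := by
  suffices key : ∀ v w : W, v ≠ 1 → w ≠ 1 →
      MulAction.stabilizer H w ≤ MulAction.stabilizer H v from
    fun v w hv hw => le_antisymm (key w v hw hv) (key v w hv hw)
  intro v w hv hw h hhw
  by_contra hhv
  have hstep : ∀ x : W, x ≠ 1 → ¬ h ∈ MulAction.stabilizer H x →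
      delta h x ≠ 1 ∧ MulAction.stabilizer H (delta h x) = MulAction.stabilizer H x := by
    intro x hx hhx
    have hne : delta h x ≠ 1 := fun e => hhx (delta_eq_one.mp e)
    refine ⟨hne, (hinc x _ hx hne fun e he => ?_).symm⟩
    rw [MulAction.mem_stabilizer_iff, smul_delta hc, MulAction.mem_stabilizer_iff.mp he]
  have hiter : ∀ k : ℕ, (delta h)^[k] v ≠ 1 ∧
      MulAction.stabilizer H ((delta h)^[k] v) = MulAction.stabilizer H v := by
    intro k
    induction k with
    | zero => exact ⟨hv, rfl⟩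
    | succ k ih =>
      obtain ⟨h1, h2⟩ := hstep _ ih.1 (ih.2 ▸ hhv)
      rw [Function.iterate_succ_apply']
      exact ⟨h1, h2.trans ih.2⟩
  obtain ⟨i, j, hij, heq⟩ := Finite.exists_ne_map_eq_of_infinite fun k : ℕ => (delta (W := W) h)^[k]
  wlog hlt : i < j generalizing i j
  · exact this j i hij.symm heq.symm (by omega)
  obtain ⟨d, rfl⟩ : ∃ d, j = d + 1 + i := ⟨j - i - 1, by omega⟩
  have hinj : ∀ u : W, h • (delta h)^[i] u = (delta h)^[i] u → (delta h)^[i] u = 1 := by
    intro u hu
    have h2 : (delta h)^[d + 1 + i] u = 1 := by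
      rw [Function.iterate_add_apply, Function.iterate_succ_apply, delta_eq_one.mpr hu]
      exact iterate_map_one _ _
    exact (congrFun heq u).trans h2
  have hcomm : ∀ (k : ℕ) (e : H) (u : W), e • (delta h)^[k] u = (delta h)^[k] (e • u) := by
    intro k e u
    induction k with
    | zero => rfl
    | succ k ih => rw [Function.iterate_succ_apply', Function.iterate_succ_apply', smul_delta hc, ih]
  set v' := (delta h)^[i] v with hv'
  obtain ⟨hv'1, hv'2⟩ := hiter i
  have hsplit : ∀ e ∈ MulAction.stabilizer H (w * v'), e • w = w ∧ e • v' = v' := by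
    intro e he
    rw [MulAction.mem_stabilizer_iff, smul_mul'] at he
    have e1 : e • w / w = v' / e • v' := by
      rw [div_eq_div_iff_mul_eq_mul, he, mul_comm]
    have e2 : v' / e • v' = (delta h)^[i] (v / e • v) := by
      rw [hv', hcomm, iterate_map_div]
    have h1 : h • (e • w / w) = e • w / w := by
      rw [smul_div', ← mul_smul, hc, mul_smul, MulAction.mem_stabilizer_iff.mp hhw]
    have h0 : e • w / w = 1 := by
      rw [e1, e2]
      refine hinj _ ?_
      rw [← e2, ← e1]
      exact h1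
    exact ⟨div_eq_one.mp h0, (div_eq_one.mp (e1.symm.trans h0)).symm⟩
  have hne : w * v' ≠ 1 := fun e => hhv (hv'2 ▸ (by
    rw [MulAction.mem_stabilizer_iff, show v' = w⁻¹ from (inv_eq_of_mul_eq_one_right e).symm,
      smul_inv', MulAction.mem_stabilizer_iff.mp hhw] : h ∈ MulAction.stabilizer H v'))
  have hle1 : MulAction.stabilizer H (w * v') ≤ MulAction.stabilizer H w := fun e he => (hsplit e he).1
  have hle2 : MulAction.stabilizer H (w * v') ≤ MulAction.stabilizer H v' := fun e he => (hsplit e he).2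
  have e : MulAction.stabilizer H w = MulAction.stabilizer H v :=
    ((hinc _ _ hne hw hle1).symm.trans (hinc _ _ hne hv'1 hle2)).trans hv'2
  exact hhv (e ▸ hhw)

/-- An automorphism of a finite cyclic `q`-group of order prime to `q` fixing a nontrivial
element is trivial. -/
theorem eq_one_of_fix_cyclic {C : Type u} [Group C] [Finite C] [IsCyclic C] {q : ℕ} [hq : Fact q.Prime]
    (hC : IsPGroup q C) (σ : C ≃* C) {k : ℕ} (hk : ¬ q ∣ k) (hσk : ∀ x, σ^[k] x = x) {x : C}
    (hx : σ x = x) (hx1 : x ≠ 1) (z : C) : σ z = z := by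
  obtain ⟨g, hg⟩ := IsCyclic.exists_generator (α := C)
  obtain ⟨r, hr⟩ := (Submonoid.mem_powers_iff _ _).mp ((mem_powers_iff_mem_zpowers).mpr (hg (σ g)))
  obtain ⟨n, hn⟩ := IsPGroup.iff_card.mp hC
  have hord : orderOf g = q ^ n := (orderOf_eq_card_of_forall_mem_zpowers hg).trans hn
  have hpow : ∀ i : ℕ, σ^[i] g = g ^ r ^ i := by
    intro i
    induction i with
    | zero => simp
    | succ i ih =>
      rw [Function.iterate_succ_apply', ih, map_pow, ← hr, ← pow_mul, pow_succ']
  obtain ⟨s, hs⟩ := (Submonoid.mem_powers_iff _ _).mp ((mem_powers_iff_mem_zpowers).mpr (hg x))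
  subst hs
  have h1 : r * s ≡ s [MOD q ^ n] := by
    rw [← hord, ← pow_eq_pow_iff_modEq, pow_mul, hr, ← map_pow, hx]
  have hrq : r ≡ 1 [MOD q] := by
    by_contra hne
    have hcop : (Int.natAbs ((r : ℤ) - 1)).Coprime (q ^ n) := by
      refine (Nat.Coprime.pow_left n (hq.out.coprime_iff_not_dvd.mpr fun hd => hne ?_)).symm
      exact (Nat.modEq_iff_dvd.mpr (by
        rw [Nat.cast_one, ← neg_sub]
        exact (Int.natCast_dvd.mpr hd).neg_right))
    have h2 : ((q ^ n : ℕ) : ℤ) ∣ ((r : ℤ) - 1) * s := by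
      have := Nat.modEq_iff_dvd.mp h1.symm
      push_cast at this ⊢
      rwa [sub_one_mul]
    refine hx1 ?_
    rw [← orderOf_dvd_iff_pow_eq_one, hord]
    have h3 : q ^ n ∣ Int.natAbs (((r : ℤ) - 1) * s) := Int.natCast_dvd.mp h2
    rw [Int.natAbs_mul, Int.natAbs_natCast] at h3
    exact hcop.symm.dvd_of_dvd_mul_left h3
  rcases Nat.eq_zero_or_pos n with rfl | hn0
  · have : g = 1 := orderOf_eq_one_iff.mp (by rw [hord, pow_zero])
    obtain ⟨m, rfl⟩ := (Submonoid.mem_powers_iff _ _).mp ((mem_powers_iff_mem_zpowers).mpr (hg z))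
    simp [this]
  have h4 : r ^ q ^ (n - 1) ≡ 1 [MOD q ^ n] := by
    have := StructB.pow_prime_pow_modEq hrq (n - 1)
    rwa [Nat.sub_add_cancel hn0] at this
  have h5 : r ^ k ≡ 1 [MOD q ^ n] := by
    rw [← hord, ← pow_eq_pow_iff_modEq, ← hpow, pow_one, hσk]
  have h6 : r ≡ 1 [MOD q ^ n] := by
    rw [← ZMod.natCast_eq_natCast_iff, Nat.cast_pow, Nat.cast_one] at h4 h5
    have := pow_gcd_eq_one.mpr ⟨h4, h5⟩
    rw [show Nat.gcd (q ^ (n - 1)) k = 1 from
      Nat.Coprime.pow_left _ (hq.out.coprime_iff_not_dvd.mpr hk), pow_one] at this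
    rw [← ZMod.natCast_eq_natCast_iff, this, Nat.cast_one]
  have hg' : σ g = g := by
    rw [← hr, ← pow_one g, ← pow_mul, one_mul, pow_eq_pow_iff_modEq, hord]
    exact h6
  obtain ⟨m, rfl⟩ := (Submonoid.mem_powers_iff _ _).mp ((mem_powers_iff_mem_zpowers).mpr (hg z))
  rw [map_pow, hg']

/-- An abelian group acting coprimely on a nontrivial abelian group, with all nontrivial elements
having the same stabiliser `T`, is cyclic modulo `T`. -/
theorem isCyclic_quotient [Finite H] [Finite W] [Nontrivial W] (hc : ∀ a b : H, a * b = b * a)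
    (T : Subgroup H) [T.Normal] (hcop : (Nat.card H).Coprime (Nat.card W))
    (hst : ∀ w : W, w ≠ 1 → MulAction.stabilizer H w = T) : IsCyclic (H ⧸ T) := by
  by_contra hnc
  have : IsMulCommutative (H ⧸ T) := ⟨⟨fun a b => by
    obtain ⟨a, rfl⟩ := QuotientGroup.mk_surjective a
    obtain ⟨b, rfl⟩ := QuotientGroup.mk_surjective b
    rw [← QuotientGroup.mk_mul, hc, QuotientGroup.mk_mul]⟩⟩
  let φ : H ⧸ T →* MulAut W := QuotientGroup.lift T (MulDistribMulAction.toMulAut H W) fun t ht =>
    MonoidHom.mem_ker.mpr (MulEquiv.ext fun w => by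
      rcases eq_or_ne w 1 with rfl | hw
      · exact map_one _
      · exact MulAction.mem_stabilizer_iff.mp ((hst w hw).ge ht))
  obtain ⟨a, ha, v, hv, hav⟩ := Coprime.exists_ne_one_fixed_of_not_isCyclic φ
    (hcop.coprime_dvd_left (Subgroup.card_quotient_dvd_card T)) hnc
  obtain ⟨a, rfl⟩ := QuotientGroup.mk_surjective a
  exact ha ((QuotientGroup.eq_one_iff a).mpr ((hst v hv).le (MulAction.mem_stabilizer_iff.mpr hav)))

end CfsgLib.BlockB.TwoComp
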