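import Cfsg.Agent.Lib.BlockB.TwoComp.Outside

/-!
# The central case: the derived group has class two
-/

set_option autoImplicit false

namespace CfsgLib.BlockB.TwoComp

open CfsgLib CfsgLib.Clifford
open CfsgLib.BlockB.Palfy (dualAction linFn mem_inertia_linFn)
open scoped commutatorElement

universe u

variable {G : Type u} [Group G] [Finite G] {N H0 : Subgroup G} [N.Normal] {y : G} {f : ℕ}

theorem Semi.eq_of_delta_eq {H : Type u} [Group H] {W : Type u} [CommGroup W]
    [MulDistribMulAction H W] {σ : H ≃* H} {τ : W ≃* W} {R : Subgroup H} (Se : Semi σ τ R f) {e : H}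
    (he : e ∉ R) {a b : W} (h : delta e a = delta e b) : a = b := by
  refine div_eq_one.mp ?_
  by_contra hne
  exact he (Se.mem_of_smul_eq hne (delta_eq_one.mp (by rw [map_div, h, div_self'])))

namespace Split

variable (S : Split N H0 y f)

include S

/-- Twisting by a linear character does not change a nonlinear character of the derived group. -/
theorem twist_eq {R : Subgroup H0}
    (Se : letI := dualAction H0 ⁅N, N⁆
      Semi (W := (⁅N, N⁆ : Subgroup G) →* ℂˣ) (conjAut S.nrm) (dualAut ⁅N, N⁆ y) R f)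
    {ψ₀ : N → ℂ} (hψ₀ : Cfsg.IsIrrCharacter N ψ₀) (hψ₀1 : ψ₀ 1 ≠ 1)
    (hd : Cfsg.charDegree ψ₀ = R.index)
    {φ : (⁅N, N⁆ : Subgroup G) → ℂ} (hφ : Cfsg.IsIrrCharacter (⁅N, N⁆ : Subgroup G) φ)
    (h1 : φ 1 ≠ 1) (l : (⁅N, N⁆ : Subgroup G) →* ℂˣ) (a : (⁅N, N⁆ : Subgroup G)) :
    (l a : ℂ) * φ a = φ a := by
  letI := dualAction H0 ⁅N, N⁆
  have : Finite ((⁅N, N⁆ : Subgroup G) →* ℂˣ) := Palfy.finite_linear
  let Λ : Subgroup ((⁅N, N⁆ : Subgroup G) →* ℂˣ) :=
    { carrier := {k | ∀ a, (k a : ℂ) * φ a = φ a}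
      one_mem' := fun a => by simp
      mul_mem' := fun {k k'} hk hk' a => by
        rw [MonoidHom.mul_apply, Units.val_mul, mul_assoc, hk' a, hk a]
      inv_mem' := fun {k} hk a => by
        conv_lhs => rw [← hk a, ← mul_assoc, ← Units.val_mul, MonoidHom.inv_apply, inv_mul_cancel,
          Units.val_one, one_mul] }
  have uniq : ∀ e : H0, e ∉ R → (e : G) ∈ inertia φ → ∀ k : (⁅N, N⁆ : Subgroup G) →* ℂˣ,
      (∀ a, (k (conjN (e : G) a) : ℂ) * φ (conjN (e : G) a) = (k a : ℂ) * φ a) → k ∈ Λ := by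
    intro e he hef k hk
    have hdel : ∀ k : (⁅N, N⁆ : Subgroup G) →* ℂˣ,
        (∀ a, (k (conjN (e : G) a) : ℂ) * φ (conjN (e : G) a) = (k a : ℂ) * φ a) →
        delta e k ∈ Λ := by
      intro k hk a
      have h := hk (conjN (e : G)⁻¹ a)
      have ha : conjN (e : G) (conjN (e : G)⁻¹ a) = a := Subtype.ext (by simp [mul_assoc])
      have hφa : φ (conjN (e : G)⁻¹ a) = φ a := (inertia φ).inv_mem hef a
      rw [ha, hφa] at h
      rw [delta_apply, MonoidHom.div_apply, Units.val_div_eq_div_val, Palfy.dual_smul_apply,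
        div_mul_eq_mul_div, ← h, mul_div_cancel_left₀ _ (Units.ne_zero _)]
    let D : Λ → Λ := fun k => ⟨delta e k, hdel k fun a => by rw [k.2, k.2, hef]⟩
    have hinj : Function.Injective D := fun a b h =>
      Subtype.ext (Se.eq_of_delta_eq he (congrArg Subtype.val h))
    obtain ⟨k', hk'⟩ := Finite.injective_iff_surjective.mp hinj ⟨delta e k, hdel k hk⟩
    exact Se.eq_of_delta_eq he (congrArg Subtype.val hk') ▸ k'.2
  obtain ⟨e, he, hef⟩ := S.exists_outside hψ₀ hψ₀1 hd hφ h1
  obtain ⟨e', he', hef'⟩ := S.exists_outside hψ₀ hψ₀1 hd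
    (Char.isIrrCharacter_mul_linear hφ l) (by simpa using h1)
  let k : (⁅N, N⁆ : Subgroup G) →* ℂˣ :=
    l / l.comp (MulAut.conjNormal (H := (⁅N, N⁆ : Subgroup G)) (e' : G)).toMonoidHom
  have hk : ∀ a, φ (conjN (e' : G) a) = (k a : ℂ) * φ a := by
    intro a
    have h : (l (conjN (e' : G) a) : ℂ) * φ (conjN (e' : G) a) = (l a : ℂ) * φ a := hef' a
    rw [show k a = l a / l (conjN (e' : G) a) from rfl, Units.val_div_eq_div_val,
      div_mul_eq_mul_div, ← h, mul_div_cancel_left₀ _ (Units.ne_zero _)]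
  have hkΛ : k ∈ Λ := uniq e he hef k fun a => by
    rw [← hk, ← hk, ← conjN_mul, show (e' : G) * e = e * e' from S.comm _ e'.2 _ e.2, conjN_mul, hef]
  have he'f : (e' : G) ∈ inertia φ := fun a => (hk a).trans (hkΛ a)
  exact uniq e' he' he'f l hef' a

/-- The central case is impossible. -/
theorem false_of_central [Group.IsSolvable G] (hB : ⁅⁅N, N⁆, ⁅N, N⁆⁆ ≠ (⊥ : Subgroup G))
    (hcen : ∀ b ∈ ⁅⁅N, N⁆, ⁅N, N⁆⁆, ∀ a ∈ ⁅N, N⁆, a * b = b * a) : False := by
  classical
  set A : Subgroup G := ⁅N, N⁆ with hAdef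
  set B : Subgroup G := ⁅A, A⁆ with hBdef
  letI := dualAction H0 A
  have hA : A ≠ ⊥ := fun e => hB (by rw [hBdef, e, Subgroup.commutator_bot_left])
  obtain ⟨R, Se, -, ψ₀, hψ₀, hψ₀1, hd⟩ := S.semi hA
  have : Finite (A →* ℂˣ) := Palfy.finite_linear
  have hBA : B ≤ A := Subgroup.commutator_le_right A A
  have hmemB : ∀ a : A, a ∈ commutator A ↔ (a : G) ∈ B := fun a => Palfy.mem_commutator_subgroup
  -- characters over nontrivial characters of `B` vanish off `B`
  have hvan : ∀ φ : A → ℂ, Cfsg.IsIrrCharacter A φ → φ 1 ≠ 1 → ∀ a : A, a ∉ commutator A → φ a = 0 := by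
    intro φ hφ h1 a ha
    obtain ⟨l, hl⟩ := Palfy.exists_linear_sep ha
    by_contra hne
    exact hl (Units.ext (mul_right_cancel₀ hne
      ((S.twist_eq Se hψ₀ hψ₀1 hd hφ h1 l a).trans (one_mul _).symm)))
  -- a vector outside `B`
  have : Nontrivial A := (Subgroup.nontrivial_iff_ne_bot _).mpr hA
  obtain ⟨v, hv⟩ : ∃ v, v ∉ commutator A := by
    by_contra! hall
    exact (Group.IsSolvable.commutator_lt_top_of_nontrivial A).ne (top_le_iff.mp fun x _ => hall x)
  have hcB : ∀ a b : B, a * b = b * a := fun a b => Subtype.ext (hcen b b.2 a (hBA a.2))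
  have hmem : ∀ x : A, ((⁅v, x⁆ : A) : G) ∈ B := fun x => (hmemB _).mp
    (Subgroup.commutator_mem_commutator (Subgroup.mem_top v) (Subgroup.mem_top x))
  let g : A →* B := MonoidHom.mk' (fun x => ⟨((⁅v, x⁆ : A) : G), hmem x⟩) fun a b => Subtype.ext (by
    show ((⁅v, a * b⁆ : A) : G) = ((⁅v, a⁆ : A) : G) * ((⁅v, b⁆ : A) : G)
    have h := hcen _ (hmem b) (a : G) a.2
    calc ((⁅v, a * b⁆ : A) : G) = ((⁅v, a⁆ : A) : G) * ((a : G) * ((⁅v, b⁆ : A) : G) * (a : G)⁻¹) := by
          simp [commutatorElement_def, mul_assoc]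
      _ = ((⁅v, a⁆ : A) : G) * ((⁅v, b⁆ : A) : G) := by rw [h, mul_inv_cancel_right])
  have hsurj : g.range = ⊤ := by
    by_contra hne
    have : g.range.Normal := ⟨fun n hn c => by rwa [hcB c n, mul_inv_cancel_right]⟩
    obtain ⟨b, hb⟩ : ∃ b, b ∉ g.range := by
      by_contra! hall; exact hne ((Subgroup.eq_top_iff' _).mpr hall)
    obtain ⟨β', hβ'⟩ := Char.exists_linear_ne_one (G := B ⧸ g.range)
      (fun p q => by
        obtain ⟨p, rfl⟩ := QuotientGroup.mk_surjective p
        obtain ⟨q, rfl⟩ := QuotientGroup.mk_surjective q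
        rw [← QuotientGroup.mk_mul, hcB, QuotientGroup.mk_mul])
      (g := (b : B ⧸ g.range)) (fun e => hb ((QuotientGroup.eq_one_iff b).mp e))
    set β : B →* ℂˣ := β'.comp (QuotientGroup.mk' g.range)
    have hβ : β ≠ 1 := fun e => hβ' (DFunLike.congr_fun e b)
    have hβi := Char.isIrrCharacter_linear β
    obtain ⟨φ, hφ, hne'⟩ := exists_irr_over hBA hβi
    have h1 := ne_one_of_over hBA le_rfl hφ hβi (linFn_ne_one hβ) hne'
    have hinv : A ≤ inertia (linFn β) := fun a ha => mem_inertia_linFn.mpr fun n =>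
      congrArg β (Subtype.ext (by rw [coe_conjN, hcen n n.2 a ha, mul_inv_cancel_right]))
    refine apply_ne_zero_of_central hφ (v := v) (fun x => ?_) (hvan φ hφ h1 v hv)
    have h2 := apply_of_invariant hBA hφ hβi (by simp) hinv hne' (g x)
    have h3 : β (g x) = 1 := by
      show β' (QuotientGroup.mk (g x)) = 1
      rw [(QuotientGroup.eq_one_iff (g x)).mpr (MonoidHom.mem_range.mpr ⟨x, rfl⟩), map_one]
    rw [show (⟨((g x : B) : G), hBA (g x).2⟩ : A) = ⁅v, x⁆ from rfl] at h2
    rw [h2, h3, Units.val_one, mul_one]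
  -- the order of `B`
  obtain ⟨l, hl, hW⟩ := Se.exists_isPGroup
  have := Fact.mk hl
  obtain ⟨n, hn⟩ := IsPGroup.iff_card.mp hW
  have hidx : (commutator A).index = l ^ n := by rw [← Char.natCard_linear]; exact hn
  have hker : commutator A < g.ker := by
    refine lt_of_le_of_ne (fun a ha => ?_) fun e => hv (e.ge ?_)
    · exact MonoidHom.mem_ker.mpr (Subtype.ext (by
        show ((⁅v, a⁆ : A) : G) = 1
        rw [commutatorElement_eq_one_iff_mul_comm.mpr
          (Subtype.ext (hcen _ ((hmemB a).mp ha) _ v.2) : v * a = a * v)]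
        rfl))
    · exact MonoidHom.mem_ker.mpr (Subtype.ext (by
        show ((⁅v, v⁆ : A) : G) = 1
        rw [commutatorElement_self]
        rfl))
  have hB' : Nat.card B = g.ker.index := by
    rw [Subgroup.index_ker, hsurj, Subgroup.card_top]
  obtain ⟨b, hbn, hb⟩ := (Nat.dvd_prime_pow hl).mp
    (hidx ▸ Subgroup.index_dvd_of_le hker.le : g.ker.index ∣ l ^ n)
  have hblt : b < n := by
    have h := Subgroup.index_strictAnti hker
    rw [hb, hidx] at h
    exact (Nat.pow_lt_pow_iff_right hl.one_lt).mp h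
  have hb0 : 0 < b := by
    rcases Nat.eq_zero_or_pos b with rfl | h
    · exact absurd (Subgroup.eq_bot_of_card_eq B (by rw [hB', hb, pow_zero])) hB
    · exact h
  -- the fixed points
  obtain ⟨a, -, ha⟩ := (Nat.dvd_prime_pow hl).mp (hn ▸ Subgroup.card_subgroup_dvd_card (fixPt (dualAut A y)))
  have ha0 : 0 < a := by
    rcases Nat.eq_zero_or_pos a with rfl | h
    · obtain ⟨w, hw⟩ := @exists_ne _ Se.nontrivW (1 : A →* ℂˣ)
      obtain ⟨k, hk⟩ := Se.exists_fix hw
      have h1 := Subgroup.eq_bot_of_card_eq _ (by rw [ha, pow_zero])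
      refine absurd (h1.le (show k • w ∈ fixPt (dualAut A y) from hk)) fun e => hw ?_
      simpa using congrArg (k⁻¹ • ·) (Subgroup.mem_bot.mp e)
    · exact h
  have h2a : 2 * a ≤ n := by
    have h := Se.sq_le
    rw [ha, hn, ← pow_add, ← two_mul] at h
    exact (Nat.pow_le_pow_iff_right hl.one_lt).mp h
  have hcount := Se.count
  rw [ha, hn] at hcount
  refine false_of_counts hl.one_lt ha0 h2a hcount hb0 hblt ?_
  -- the orbits on `B`
  rw [← hb, ← hB']
  have hnB : B.Normal := inferInstance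
  letI : MulAction H0 {x : B // x ≠ 1} :=
    { smul := fun h x => ⟨conjN (h : G) x.1, fun e => x.2
        (Subtype.ext (conj_eq_one_iff.mp (congrArg Subtype.val e)))⟩
      one_smul := fun x => Subtype.ext (conjN_one x.1)
      mul_smul := fun h h' x => Subtype.ext (conjN_mul (h : G) h' x.1) }
  have hstab : ∀ x : {x : B // x ≠ 1}, MulAction.stabilizer H0 x ≤ Se.fixed := by
    intro x h hh
    have e : conjN (h : G) x.1 = x.1 := congrArg Subtype.val (MulAction.mem_stabilizer_iff.mp hh)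
    have hcomm : y * (h : G) = h * y := by
      by_contra hy
      exact x.2 (Subtype.ext (S.fpf h h.2 hy _ (hBA x.1.2)
        (mul_inv_eq_iff_eq_mul.mp (congrArg Subtype.val e))))
    show Se.twist h ∈ R
    rw [Semi.twist_apply, show conjAut S.nrm h = h from Subtype.ext (by
      show y * (h : G) * y⁻¹ = h
      rw [hcomm, mul_inv_cancel_right]), mul_inv_cancel]
    exact one_mem R
  have : Fintype (MulAction.orbitRel.Quotient H0 {x : B // x ≠ 1}) := Fintype.ofFinite _
  have hcard : Nat.card {x : B // x ≠ 1} = Nat.card B - 1 := by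
    have := Fintype.ofFinite B
    rw [Nat.card_eq_fintype_card, Nat.card_eq_fintype_card, Fintype.card_subtype_compl,
      Fintype.card_subtype_eq]
  rw [← hcard, Nat.card_congr (MulAction.selfEquivSigmaOrbitsQuotientStabilizer H0 {x : B // x ≠ 1}),
    Nat.card_sigma]
  exact Finset.dvd_sum fun w _ => Subgroup.index_dvd_of_le (hstab _)

end Split

end CfsgLib.BlockB.TwoComp
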