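import Cfsg.Agent.Lib.BlockB.Palfy.NormalMain
import Cfsg.Agent.Lib.Char.Column
import Cfsg.Agent.Lib.Clifford.Constituents

/-!
# Degree bound from a subgroup, and centralisers where the nonlinear characters vanish
-/

set_option autoImplicit false

namespace CfsgLib.BlockB.TwoComp

open CfsgLib CfsgLib.Clifford
open scoped ComplexConjugate

universe u

/-- A degree is at most the index times the degree of a constituent of the restriction. -/
theorem charDegree_le_index_mul {X : Type u} [Group X] [Finite X] (C : Subgroup X) {χ : X → ℂ}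
    (hχ : Cfsg.IsIrrCharacter X χ) :
    ∃ η : C → ℂ, Cfsg.IsIrrCharacter C η ∧
      Cfsg.charDegree χ ≤ C.index * Cfsg.charDegree η := by
  have := Fintype.ofFinite X
  have := Fintype.ofFinite C
  obtain ⟨η, hη, hne⟩ := exists_irr_constituent
    (Char.isCharacter_comp (Char.irr_isCharacter hχ) C.subtype) fun h0 =>
      Char.irr_apply_one_ne_zero hχ (by simpa using congr_fun h0 1)
  refine ⟨η, hη, ?_⟩
  have hF := Char.isCharacter_indFun C (Char.irr_isCharacter hη)
  have hne' : Cfsg.classInner (Cfsg.indFun C η) χ ≠ 0 := by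
    rw [Char.frobenius_reciprocity C η χ (Char.irr_isClassFunction hχ)]
    obtain ⟨k, hk⟩ := Char.classInner_isCharacter_nat
      (Char.isCharacter_comp (Char.irr_isCharacter hχ) C.subtype) (Char.irr_isCharacter hη)
    intro h0
    apply hne
    rw [hk]
    have h1 := congrArg conj h0
    rw [map_zero, Char.classInner_def, map_mul, map_inv₀, map_natCast, map_sum] at h1
    rw [← hk, Char.classInner_def, ← h1]
    exact congrArg _ (Finset.sum_congr rfl fun c _ => by simp [mul_comm])
  obtain ⟨R, hR, e⟩ := exists_add_of_constituent hF hχ hne'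
  have h1 := congr_fun e 1
  rw [Char.indFun_apply_one, Pi.add_apply, ← BlockB.charDegree_cast (Char.irr_isCharacter hη),
    ← BlockB.charDegree_cast (Char.irr_isCharacter hχ), ← BlockB.charDegree_cast hR] at h1
  have h2 : C.index * Cfsg.charDegree η = Cfsg.charDegree χ + Cfsg.charDegree R := by exact_mod_cast h1
  omega

/-- Where all nonlinear characters vanish the centraliser has the order of the abelianisation. -/
theorem natCard_centralizer_of_vanish {X : Type u} [Group X] [Finite X] (g : X)
    (h : ∀ χ : X → ℂ, Cfsg.IsIrrCharacter X χ → χ 1 ≠ 1 → χ g = 0) :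
    Nat.card (Subgroup.centralizer ({g} : Set X)) = (commutator X).index := by
  classical
  have := Fintype.ofFinite X
  have := Fintype.ofFinite (Cfsg.IrrCharacter X)
  have hc := Char.column_orthogonality g g
  rw [if_pos (IsConj.refl g)] at hc
  have hterm : ∀ χ : Cfsg.IrrCharacter X, (χ : X → ℂ) g * conj ((χ : X → ℂ) g) =
      if (χ : X → ℂ) 1 = 1 then 1 else 0 := by
    intro χ
    split_ifs with h1
    · obtain ⟨lam, hlam⟩ := Char.exists_hom_of_degree_one (Char.irr_isCharacter χ.2) h1
      have hpow : ((lam g : ℂˣ) : ℂ) ^ orderOf g = 1 := by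
        rw [← Units.val_pow_eq_pow_val, ← map_pow, pow_orderOf_eq_one, map_one, Units.val_one]
      rw [hlam]
      show ((lam g : ℂˣ) : ℂ) * conj ((lam g : ℂˣ) : ℂ) = 1
      rw [Complex.mul_conj']
      rw [Complex.norm_eq_one_of_pow_eq_one hpow (orderOf_pos g).ne']
      simp
    · rw [h χ χ.2 h1, zero_mul]
  rw [Finset.sum_congr rfl fun χ _ => hterm χ, Finset.sum_boole] at hc
  have h2 : (Finset.univ.filter fun χ : Cfsg.IrrCharacter X => (χ : X → ℂ) 1 = 1).card =
      Nat.card (Subgroup.centralizer ({g} : Set X)) := by exact_mod_cast hc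
  rw [← h2, ← Char.natCard_linearIrr, Nat.card_eq_fintype_card, Fintype.card_subtype]

end CfsgLib.BlockB.TwoComp
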