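import Cfsg.Prelude.Def_DegreeGraph
import Cfsg.Agent.Lib.BlockB.Palfy.NormalMain
import Cfsg.Agent.Lib.ThreeDeg.Basic
import Mathlib.Combinatorics.SimpleGraph.Connectivity.Connected
import Mathlib.SetTheory.Cardinal.Finite

/-!
# Degrees not properly dividing one another, and degree graphs with two components
-/

set_option autoImplicit false

namespace CfsgLib.BlockB.TwoComp

open CfsgLib

universe u

/-- Nonlinear degrees do not properly divide one another. -/
def NoDiv (G : Type u) [Group G] : Prop :=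
  ∀ χ χ' : G → ℂ, Cfsg.IsIrrCharacter G χ → Cfsg.IsIrrCharacter G χ' → Cfsg.charDegree χ ≠ 1 →
    Cfsg.charDegree χ ∣ Cfsg.charDegree χ' → Cfsg.charDegree χ = Cfsg.charDegree χ'

variable {G : Type u} [Group G] [Finite G]

theorem noDiv_of_not_dvd (hnd : ∀ a ∈ Cfsg.charDegrees G, ∀ b ∈ Cfsg.charDegrees G, 1 < a →
    a < b → ¬ a ∣ b) : NoDiv G := by
  intro χ χ' hχ hχ' h1 hd
  have := ThreeDeg.deg_pos hχ
  have h2 := Nat.le_of_dvd (ThreeDeg.deg_pos hχ') hd
  by_contra hne
  exact hnd (Cfsg.charDegree χ) ⟨⟨χ, hχ⟩, rfl⟩ (Cfsg.charDegree χ') ⟨⟨χ', hχ'⟩, rfl⟩ (by omega)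
    (by omega) hd

omit [Finite G] in
/-- With two components no prime is joined to every vertex. -/
theorem false_of_hub
    (htwo : Nat.card ((Cfsg.degreeGraph G).induce (Cfsg.degreePrimes G)).ConnectedComponent = 2)
    {r : ℕ} (hr : r ∈ Cfsg.degreePrimes G) (h : ∀ (p : ℕ) (hp : p ∈ Cfsg.degreePrimes G),
      ((Cfsg.degreeGraph G).induce (Cfsg.degreePrimes G)).Reachable ⟨p, hp⟩ ⟨r, hr⟩) : False := by
  have : Subsingleton ((Cfsg.degreeGraph G).induce (Cfsg.degreePrimes G)).ConnectedComponent :=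
    ⟨fun a b => by
      induction a using SimpleGraph.ConnectedComponent.ind with
      | h x =>
        induction b using SimpleGraph.ConnectedComponent.ind with
        | h z => exact SimpleGraph.ConnectedComponent.sound ((h x.1 x.2).trans (h z.1 z.2).symm)⟩
  have h1 := Finite.card_le_one_iff_subsingleton.mpr this
  omega

omit [Finite G] in
/-- Primes of one degree are joined. -/
theorem reachable_of_dvd {p r d : ℕ} (hd : d ∈ Cfsg.charDegrees G) (hp : p ∈ Cfsg.degreePrimes G)
    (hr : r ∈ Cfsg.degreePrimes G) (hpd : p ∣ d) (hrd : r ∣ d) :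
    ((Cfsg.degreeGraph G).induce (Cfsg.degreePrimes G)).Reachable ⟨p, hp⟩ ⟨r, hr⟩ := by
  rcases eq_or_ne p r with rfl | hne
  · exact SimpleGraph.Reachable.refl _
  · refine SimpleGraph.Adj.reachable ?_
    exact ⟨hne, hp.1, hr.1, d, hd,
      ((Nat.coprime_primes hp.1 hr.1).mpr hne).mul_dvd_of_dvd_of_dvd hpd hrd⟩

end CfsgLib.BlockB.TwoComp
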