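import Cfsg.Agent.Lib.ThreeDeg.Solvable

/-!
# A maximal nonabelian quotient of a solvable group
-/

set_option autoImplicit false

namespace CfsgLib.BlockB.TwoComp

open CfsgLib CfsgLib.Clifford
open scoped commutatorElement

universe u

variable {G : Type u} [Group G] [Fintype G]

/-- A solvable nonabelian group has a nilpotent nonabelian quotient, or a section on which the
outside acts without fixed points. -/
theorem exists_section [Group.IsSolvable G] (hna : ¬ commutator G ≤ ⊥) :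
    ∃ K A : Subgroup G, K.Normal ∧ A.Normal ∧ ∃ q : ℕ, q.Prime ∧ K < A ∧ ⁅A, A⁆ ≤ K ∧
      commutator G ≤ A ∧ (((∀ x : G, ∃ k : ℕ, x ^ q ^ k ∈ K) ∧ ¬ commutator G ≤ K) ∨
        (A ≠ ⊤ ∧ (∀ u ∈ A, u ^ q ∈ K) ∧
          ∀ w : G, w ∉ A → ∀ u ∈ A, ⁅w, u⁆ ∈ K → u ∈ K)) := by
  classical
  have hs : Group.IsSolvable G := inferInstance
  obtain ⟨K, -, ⟨hKn, hKna⟩, hKmax⟩ := Finite.exists_le_maximal
    (p := fun K : Subgroup G => K.Normal ∧ ¬ commutator G ≤ K) (a := ⊥) ⟨inferInstance, hna⟩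
  set A : Subgroup G := commutator G ⊔ K with hA
  have hKA : K < A := lt_of_le_of_ne le_sup_right fun h => hKna (h ▸ le_sup_left)
  have hmin : ∀ L : Subgroup G, L.Normal → K ≤ L → L ≤ A → L = K ∨ L = A := by
    intro L hL hKL hLA
    by_cases hc : commutator G ≤ L
    · exact Or.inr (le_antisymm hLA (sup_le hc hKL))
    · exact Or.inl (le_antisymm (hKmax ⟨hL, hc⟩ hKL) hKL)
  have hAn : A.Normal := inferInstance
  have habA : ⁅A, A⁆ ≤ K := by
    rcases hmin (⁅A, A⁆ ⊔ K) inferInstance le_sup_right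
      (sup_le (Subgroup.commutator_le_left A A) hKA.le) with h | h
    · exact le_sup_left.trans h.le
    · exfalso
      have h1 : ⁅A.map (QuotientGroup.mk' K), A.map (QuotientGroup.mk' K)⁆ =
          A.map (QuotientGroup.mk' K) := by
        rw [← Subgroup.map_commutator]
        conv_rhs => rw [← h, Subgroup.map_sup, QuotientGroup.map_mk'_self, sup_bot_eq]
      have : Group.IsSolvable (G ⧸ K) :=
        Group.isSolvable_of_surjective (QuotientGroup.mk'_surjective K)
      refine (Group.IsSolvable.commutator_lt_of_ne_bot ?_).ne h1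
      rw [Ne, Subgroup.map_eq_bot_iff, QuotientGroup.ker_mk']
      exact not_le_of_gt hKA
  have habG : commutator G ≤ A := le_sup_left
  have hmem : ∀ x y : G, ⁅x, y⁆ ∈ A := fun x y =>
    habG (Subgroup.commutator_mem_commutator (Subgroup.mem_top x) (Subgroup.mem_top y))
  set π := QuotientGroup.mk' K with hπ
  set B := A.map π with hB
  have hBn : B.Normal := Subgroup.Normal.map hAn π (QuotientGroup.mk'_surjective K)
  have hBne : B ≠ ⊥ := fun h => by
    rw [hB, Subgroup.map_eq_bot_iff, hπ, QuotientGroup.ker_mk'] at h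
    exact not_le_of_gt hKA h
  have hBmin : ∀ L : Subgroup (G ⧸ K), L.Normal → L ≤ B → L = ⊥ ∨ L = B := by
    intro L hL hLB
    rcases hmin (L.comap π) (hL.comap π) (QuotientGroup.le_comap_mk' _ _) (fun x hx => by
        obtain ⟨y, hy, hxy⟩ := hLB hx
        have := (QuotientGroup.eq).mp hxy
        simpa using A.mul_mem hy (hKA.le this)) with h | h
    · left
      rw [← Subgroup.map_comap_eq_self_of_surjective (QuotientGroup.mk'_surjective K) L, ← hπ, h,
        hπ, QuotientGroup.map_mk'_self]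
    · right
      rw [← Subgroup.map_comap_eq_self_of_surjective (QuotientGroup.mk'_surjective K) L, ← hπ, h]
  have hBc : ∀ x ∈ B, ∀ y ∈ B, x * y = y * x := by
    rintro _ ⟨x, hx, rfl⟩ _ ⟨y, hy, rfl⟩
    have h1 : π ⁅x, y⁆ = 1 :=
      (QuotientGroup.eq_one_iff _).mpr (habA (Subgroup.commutator_mem_commutator hx hy))
    rwa [map_commutatorElement, commutatorElement_def, mul_inv_eq_one, mul_inv_eq_iff_eq_mul] at h1
  have hcB : ∀ x y : G ⧸ K, ⁅x, y⁆ ∈ B := by
    intro x y
    obtain ⟨x, rfl⟩ := QuotientGroup.mk'_surjective K x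
    obtain ⟨y, rfl⟩ := QuotientGroup.mk'_surjective K y
    exact ⟨⁅x, y⁆, hmem x y, map_commutatorElement π x y⟩
  -- `B` is a `q`-group
  obtain ⟨q, hq, hqB⟩ := Nat.exists_prime_and_dvd
    (fun h => hBne (Subgroup.card_eq_one.mp h) : Nat.card B ≠ 1)
  haveI := Fact.mk hq
  have hBq : ∀ x ∈ B, x ^ q = 1 := by
    let T : Subgroup (G ⧸ K) :=
      { carrier := {z | z ∈ B ∧ z ^ q = 1}
        one_mem' := ⟨B.one_mem, one_pow _⟩
        mul_mem' := by
          rintro u v ⟨hu, hu'⟩ ⟨hv, hv'⟩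
          exact ⟨B.mul_mem hu hv, by
            rw [Commute.mul_pow (hBc u hu v hv), hu', hv', one_mul]⟩
        inv_mem' := by
          rintro u ⟨hu, hu'⟩
          exact ⟨B.inv_mem hu, by rw [inv_pow, hu', inv_one]⟩ }
    have hTn : T.Normal := ⟨fun z hz g => ⟨hBn.conj_mem z hz.1 g, by
      rw [conj_pow, hz.2, mul_one, mul_inv_cancel]⟩⟩
    rcases hBmin T hTn (fun z hz => hz.1) with h | h
    · exfalso
      obtain ⟨z, hz⟩ := exists_prime_orderOf_dvd_card' q hqB
      have hzT : (z : G ⧸ K) ∈ T := ⟨z.2, by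
        rw [← SubmonoidClass.coe_pow, ← hz, pow_orderOf_eq_one, OneMemClass.coe_one]⟩
      rw [h, Subgroup.mem_bot] at hzT
      rw [show z = 1 from Subtype.ext hzT, orderOf_one] at hz
      exact hq.ne_one hz.symm
    · exact fun x hx => (h.ge hx).2
  by_cases hcen : B ≤ Subgroup.center (G ⧸ K)
  · -- then `G / K` is a `q`-group
    suffices hp : IsPGroup q (G ⧸ K) by
      refine ⟨K, A, hKn, hAn, q, hq, hKA, habA, habG, Or.inl ⟨fun x => ?_, hKna⟩⟩
      obtain ⟨k, hk⟩ := hp (QuotientGroup.mk' K x)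
      exact ⟨k, (QuotientGroup.eq_one_iff _).mp hk⟩
    intro x
    by_contra hx
    push Not at hx
    obtain ⟨r, hr, hrx, hrq⟩ : ∃ r, r.Prime ∧ r ∣ orderOf x ∧ r ≠ q := by
      by_contra hcon
      push Not at hcon
      refine hx ((orderOf x).primeFactorsList.length) ?_
      have h := Nat.eq_prime_pow_of_unique_prime_dvd (orderOf_pos x).ne' (fun hd hd' => hcon _ hd hd')
      exact h ▸ pow_orderOf_eq_one x
    set z := x ^ (orderOf x / r) with hz
    have hzo : orderOf z = r := by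
      rw [hz, orderOf_pow_of_dvd (Nat.div_ne_zero_iff_of_dvd hrx |>.mpr ⟨(orderOf_pos x).ne', hr.ne_zero⟩)
        (Nat.div_dvd_of_dvd hrx), Nat.div_div_self hrx (orderOf_pos x).ne']
    have hzc : z ∈ Subgroup.center (G ⧸ K) := by
      rw [Subgroup.mem_center_iff]
      intro y
      have hcc : ∀ n : ℕ, ⁅z ^ n, y⁆ = ⁅z, y⁆ ^ n := by
        intro n
        induction n with
        | zero => simp
        | succ n ihn =>
          have hc := Subgroup.mem_center_iff.mp (hcen (hcB z y))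
          calc ⁅z ^ (n + 1), y⁆ = z ^ n * ⁅z, y⁆ * (z ^ n)⁻¹ * ⁅z ^ n, y⁆ := by
                rw [commutatorElement_def, commutatorElement_def, commutatorElement_def]; group
            _ = ⁅z, y⁆ * ⁅z ^ n, y⁆ := by rw [hc (z ^ n), mul_inv_cancel_right]
            _ = ⁅z, y⁆ ^ (n + 1) := by rw [ihn, pow_succ']
      have h1 : ⁅z, y⁆ ^ r = 1 := by
        rw [← hcc, ← hzo, pow_orderOf_eq_one, commutatorElement_one_left]
      have h2 : ⁅z, y⁆ = 1 := orderOf_eq_one_iff.mp (Nat.eq_one_of_dvd_coprimes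
        ((Nat.coprime_primes hr hq).mpr hrq) (orderOf_dvd_of_pow_eq_one h1)
        (orderOf_dvd_of_pow_eq_one (hBq _ (hcB z y))))
      rw [commutatorElement_def, mul_inv_eq_one, mul_inv_eq_iff_eq_mul] at h2
      exact h2.symm
    set Z : Subgroup (G ⧸ K) := Subgroup.zpowers z with hZ
    have hZn : Z.Normal := ⟨fun u hu g => by
      obtain ⟨k, rfl⟩ := hu
      rw [Subgroup.mem_center_iff.mp (zpow_mem hzc k) g, mul_inv_cancel_right]
      exact zpow_mem (Subgroup.mem_zpowers z) k⟩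
    have hzB : Z ⊓ B = ⊥ := by
      refine Subgroup.inf_eq_bot_of_coprime ?_
      rw [hZ, Nat.card_zpowers, hzo]
      refine hr.coprime_iff_not_dvd.mpr fun h => ?_
      obtain ⟨w, hw⟩ := exists_prime_orderOf_dvd_card' (G := B) (hp := ⟨hr⟩) r h
      have h1 : orderOf w ∣ q := orderOf_dvd_of_pow_eq_one (Subtype.ext (by
        rw [SubmonoidClass.coe_pow]; exact hBq _ w.2))
      rw [hw] at h1
      exact hrq ((Nat.prime_dvd_prime_iff_eq hr hq).mp h1)
    have hAZ : ¬ commutator G ≤ Z.comap π := by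
      intro h
      apply hBne
      rw [← le_bot_iff, ← hzB]
      refine le_inf ?_ le_rfl
      rintro _ ⟨y, hy, rfl⟩
      exact (sup_le h (QuotientGroup.le_comap_mk' K Z) : A ≤ Z.comap π) hy
    have h3 := hKmax ⟨hZn.comap π, hAZ⟩ (QuotientGroup.le_comap_mk' _ _)
    obtain ⟨g, hg⟩ := QuotientGroup.mk'_surjective K z
    have hgK : g ∈ K := h3 (by rw [Subgroup.mem_comap, hg]; exact Subgroup.mem_zpowers z)
    rw [← hg, QuotientGroup.mk'_apply, (QuotientGroup.eq_one_iff g).mpr hgK, orderOf_one] at hzo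
    exact hr.ne_one hzo.symm
  -- `B` is not central: fixed points of elements outside the centraliser are trivial
  set C := Subgroup.centralizer (B : Set (G ⧸ K)) with hC
  have hfixed : ∀ w : G ⧸ K, w ∉ C → ∀ u ∈ B, w * u = u * w → u = 1 := by
    intro w hw u hu huw
    let T : Subgroup (G ⧸ K) := B ⊓ Subgroup.centralizer {w}
    have hTn : T.Normal := ⟨fun s hs g => ⟨hBn.conj_mem s hs.1 g, by
      change _ ∈ Subgroup.centralizer _
      rw [Subgroup.mem_centralizer_singleton_iff]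
      have hs2 := Subgroup.mem_centralizer_singleton_iff.mp hs.2
      have hd : ⁅g⁻¹, w⁆ ∈ B := hcB _ _
      have h1 : g⁻¹ * w * g = ⁅g⁻¹, w⁆ * w := by rw [commutatorElement_def]; group
      have h2 : s * (g⁻¹ * w * g) = (g⁻¹ * w * g) * s := by
        rw [h1, ← mul_assoc, hBc s hs.1 _ hd, mul_assoc, hs2, mul_assoc]
      calc g * s * g⁻¹ * w = g * (s * (g⁻¹ * w * g)) * g⁻¹ := by group
        _ = w * (g * s * g⁻¹) := by rw [h2]; group⟩⟩
    have huT : u ∈ T := ⟨hu, Subgroup.mem_centralizer_singleton_iff.mpr huw.symm⟩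
    rcases hBmin T hTn inf_le_left with h | h
    · rwa [h, Subgroup.mem_bot] at huT
    · refine absurd (Subgroup.mem_centralizer_iff.mpr fun s hs => ?_) hw
      exact Subgroup.mem_centralizer_singleton_iff.mp (h.ge hs).2
  -- the centraliser of `B` is `B`
  have hCB : C ≤ B := by
    obtain ⟨w, hw⟩ : ∃ w, w ∉ C := by
      by_contra h
      push Not at h
      exact hcen fun u hu => Subgroup.mem_center_iff.mpr fun y =>
        (Subgroup.mem_centralizer_iff.mp (h y) u hu).symm
    have hCn : C.Normal := inferInstance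
    set Cw : Subgroup (G ⧸ K) := C ⊓ Subgroup.centralizer {w} with hCw
    have hCwn : Cw.Normal := ⟨fun s hs g => ⟨hCn.conj_mem s hs.1 g, by
      change _ ∈ Subgroup.centralizer _
      rw [Subgroup.mem_centralizer_singleton_iff]
      have hs2 := Subgroup.mem_centralizer_singleton_iff.mp hs.2
      have hd : ⁅g⁻¹, w⁆ ∈ B := hcB _ _
      have hsd := Subgroup.mem_centralizer_iff.mp hs.1 _ hd
      have h1 : g⁻¹ * w * g = ⁅g⁻¹, w⁆ * w := by rw [commutatorElement_def]; group
      have h2 : s * (g⁻¹ * w * g) = (g⁻¹ * w * g) * s := by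
        rw [h1, ← mul_assoc, ← hsd, mul_assoc, hs2, mul_assoc]
      calc g * s * g⁻¹ * w = g * (s * (g⁻¹ * w * g)) * g⁻¹ := by group
        _ = w * (g * s * g⁻¹) := by rw [h2]; group⟩⟩
    have hCwB : Cw ⊓ B = ⊥ := by
      rw [eq_bot_iff]
      intro u hu
      exact hfixed w hw u hu.2 (Subgroup.mem_centralizer_singleton_iff.mp hu.1.2).symm
    -- `Cw` is trivial
    have hCw1 : Cw = ⊥ := by
      have hnc : ¬ commutator G ≤ Cw.comap π := by
        intro h
        apply hBne
        rw [← le_bot_iff, ← hCwB]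
        refine le_inf ?_ le_rfl
        rintro _ ⟨y, hy, rfl⟩
        exact (sup_le h (QuotientGroup.le_comap_mk' K Cw) : A ≤ Cw.comap π) hy
      have h3 := hKmax ⟨hCwn.comap π, hnc⟩ (QuotientGroup.le_comap_mk' _ _)
      rw [eq_bot_iff]
      intro u hu
      obtain ⟨g, rfl⟩ := QuotientGroup.mk'_surjective K u
      rw [Subgroup.mem_bot, QuotientGroup.mk'_apply, QuotientGroup.eq_one_iff]
      exact h3 hu
    -- the commutator map with `w`
    let φ : B → B := fun u => ⟨⁅(u : G ⧸ K), w⁆, hcB _ _⟩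
    have hmul : ∀ c d : G ⧸ K, c ∈ C → ⁅c * d, w⁆ = ⁅d, w⁆ * ⁅c, w⁆ := by
      intro c d hc
      have h1 := Subgroup.mem_centralizer_iff.mp hc _ (hcB d w)
      calc ⁅c * d, w⁆ = (c * ⁅d, w⁆) * c⁻¹ * ⁅c, w⁆ := by
            simp only [commutatorElement_def]; group
        _ = ⁅d, w⁆ * ⁅c, w⁆ := by rw [← h1]; group
    have hBC : B ≤ C := fun u hu => Subgroup.mem_centralizer_iff.mpr fun v hv => hBc v hv u hu
    have hinj : Function.Injective φ := by
      intro u v huv
      have he : ⁅(u : G ⧸ K), w⁆ = ⁅(v : G ⧸ K), w⁆ := congr_arg Subtype.val huv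
      have h1 := hmul ((u : G ⧸ K) * (v : G ⧸ K)⁻¹) v
        (C.mul_mem (hBC u.2) (C.inv_mem (hBC v.2)))
      rw [inv_mul_cancel_right, he] at h1
      have h2 : ⁅(u : G ⧸ K) * (v : G ⧸ K)⁻¹, w⁆ = 1 := mul_left_cancel (h1.symm.trans (mul_one _).symm)
      rw [commutatorElement_def, mul_inv_eq_one, mul_inv_eq_iff_eq_mul] at h2
      have h3 := hfixed w hw _ (B.mul_mem u.2 (B.inv_mem v.2)) h2.symm
      exact Subtype.ext (mul_inv_eq_one.mp h3)
    intro c hc
    obtain ⟨u, hu⟩ := (Finite.injective_iff_surjective.mp hinj) ⟨⁅c, w⁆, hcB c w⟩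
    have hu' : ⁅(u : G ⧸ K), w⁆ = ⁅c, w⁆ := congr_arg Subtype.val hu
    have hd : (u : G ⧸ K)⁻¹ * c ∈ Cw := by
      refine ⟨C.mul_mem (C.inv_mem (hBC u.2)) hc, Subgroup.mem_centralizer_singleton_iff.mpr ?_⟩
      have h1 := hmul (u : G ⧸ K) ((u : G ⧸ K)⁻¹ * c) (hBC u.2)
      rw [mul_inv_cancel_left, ← hu'] at h1
      have h2 : ⁅(u : G ⧸ K)⁻¹ * c, w⁆ = 1 := mul_right_cancel (h1.symm.trans (one_mul _).symm)
      rw [commutatorElement_def, mul_inv_eq_one, mul_inv_eq_iff_eq_mul] at h2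
      exact h2
    rw [hCw1, Subgroup.mem_bot, inv_mul_eq_one] at hd
    exact hd ▸ u.2
  have hAtop : A ≠ ⊤ := fun h => hKna (by
    rw [h] at habA
    exact habA)
  refine ⟨K, A, hKn, hAn, q, hq, hKA, habA, habG, Or.inr ⟨hAtop, fun u hu => ?_, fun w hw u hu h => ?_⟩⟩
  · exact (QuotientGroup.eq_one_iff _).mp ((map_pow π u q).trans (hBq _ ⟨u, hu, rfl⟩))
  · have hwC : π w ∉ C := fun hc => hw (by
      obtain ⟨a, ha, e⟩ := hCB hc
      have := QuotientGroup.eq.mp e
      simpa using A.mul_mem ha (hKA.le this))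
    refine (QuotientGroup.eq_one_iff u).mp (hfixed (π w) hwC (π u) ⟨u, hu, rfl⟩ ?_)
    rw [← commutatorElement_eq_one_iff_mul_comm, ← map_commutatorElement]
    exact (QuotientGroup.eq_one_iff _).mpr h

end CfsgLib.BlockB.TwoComp
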