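import Cfsg.Agent.Lib.BlockB.TwoComp.Sit
import Cfsg.Agent.Lib.BlockB.TwoComp.Section
import Cfsg.Agent.Lib.BlockB.TwoComp.Graph
import Cfsg.Agent.Lib.Clifford.Degree

/-!
# Two components and no proper division: three degrees
-/

set_option autoImplicit false

namespace CfsgLib.BlockB.TwoComp

open CfsgLib CfsgLib.Clifford
open scoped commutatorElement

universe u

variable {G : Type u} [Group G] [Finite G]

theorem charDegree_mul_of_apply_one {χ : G → ℂ} (hχ : Cfsg.IsIrrCharacter G χ) {N : Type u}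
    [Group N] [Finite N] {θ : N → ℂ} (hθ : Cfsg.IsIrrCharacter N θ) {e : ℕ}
    (h : χ 1 = (e : ℂ) * θ 1) : Cfsg.charDegree χ = e * Cfsg.charDegree θ := by
  rw [← BlockB.charDegree_cast (Char.irr_isCharacter hχ),
    ← BlockB.charDegree_cast (Char.irr_isCharacter hθ)] at h
  exact_mod_cast h

/-- A nilpotent nonabelian quotient: its prime divides every nonlinear degree. -/
theorem dvd_of_pGroup_quot (H : NoDiv G) (K : Subgroup G) [K.Normal] {q : ℕ} (hq : q.Prime)
    (hK : ∀ x : G, ∃ k : ℕ, x ^ q ^ k ∈ K) (hna : ¬ commutator G ≤ K) {η : G → ℂ}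
    (hη : Cfsg.IsIrrCharacter G η) (hη1 : Cfsg.charDegree η ≠ 1) : q ∣ Cfsg.charDegree η := by
  classical
  have := Fintype.ofFinite G
  have := Fintype.ofFinite K
  have := Fact.mk hq
  by_contra hqd
  obtain ⟨m, hm⟩ : ∃ m, Nat.card (G ⧸ K) = q ^ m := by
    refine IsPGroup.iff_card.mp fun x => ?_
    obtain ⟨x, rfl⟩ := QuotientGroup.mk_surjective x
    obtain ⟨k, hk⟩ := hK x
    exact ⟨k, by rw [← QuotientGroup.mk_pow, (QuotientGroup.eq_one_iff _).mpr hk]⟩
  obtain ⟨ψ, hψ1⟩ : ∃ ψ : Cfsg.IrrCharacter (G ⧸ K), (ψ : G ⧸ K → ℂ) 1 ≠ 1 := by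
    by_contra! hall
    refine hna (Subgroup.commutator_le.mpr fun x _ z _ => (QuotientGroup.eq_one_iff _).mp ?_)
    show QuotientGroup.mk' K ⁅x, z⁆ = 1
    rw [map_commutatorElement, commutatorElement_eq_one_iff_mul_comm]
    exact Char.comm_iff_forall_degree_one.mpr hall _ _
  set β : G → ℂ := (ψ : G ⧸ K → ℂ) ∘ QuotientGroup.mk' K with hβ
  have hβirr : Cfsg.IsIrrCharacter G β :=
    Char.isIrrCharacter_comp_surjective ψ.2 _ (QuotientGroup.mk'_surjective K)
  have hβd : Cfsg.charDegree β ≠ 1 := fun h => hψ1 (by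
    have := (Palfy.charDegree_eq_one_iff hβirr).mpr h
    rwa [hβ, Function.comp_apply, map_one] at this)
  obtain ⟨θ, hθ, hne⟩ := exists_irr_constituent_restrict (N := K) hη
  obtain ⟨e, he, hei⟩ := degree_quot_dvd_index hη hθ hne
  rw [Subgroup.index_eq_card, hm] at hei
  have hed := charDegree_mul_of_apply_one hη hθ he
  have he1 : e = 1 := Nat.eq_one_of_dvd_coprimes ((hq.coprime_iff_not_dvd.mpr hqd).pow_left m) hei
    ⟨_, hed⟩
  have hres : Cfsg.IsIrrCharacter K (fun k : K => η k) := by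
    obtain ⟨R, hR, hRe⟩ := exists_add_of_constituent
      (Char.isCharacter_restrict (Char.irr_isCharacter hη) K) hθ hne
    have hR1 : R 1 = 0 := by
      have h2 := congr_fun hRe 1
      simp only [OneMemClass.coe_one, Pi.add_apply, he, he1, Nat.cast_one, one_mul] at h2
      simpa using h2
    rw [hRe, eq_zero_of_apply_one_eq_zero hR hR1, add_zero]
    exact hθ
  have hprod := isIrrCharacter_mul_of_invariant K (Char.irr_isCharacter hη) hres hβirr
    (fun k x => by simp [hβ, (QuotientGroup.eq_one_iff (k : G)).mpr k.2])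
  have hdeg : Cfsg.charDegree (η * β) = Cfsg.charDegree η * Cfsg.charDegree β := by
    have h : (η * β) 1 = (Cfsg.charDegree η : ℂ) * β 1 := by
      rw [Pi.mul_apply, BlockB.charDegree_cast (Char.irr_isCharacter hη)]
    exact charDegree_mul_of_apply_one hprod hβirr h
  have := H η (η * β) hη hprod hη1 ⟨_, hdeg⟩
  rw [hdeg] at this
  exact hβd (Nat.eq_of_mul_eq_mul_left (ThreeDeg.deg_pos hη) (this.symm.trans (mul_one _).symm))

/-- The section on which the outside acts without fixed points. -/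
structure Frob (A K : Subgroup G) [A.Normal] (q : ℕ) : Prop where
  hq : q.Prime
  lt : K < A
  ab : ⁅A, A⁆ ≤ K
  comm : commutator G ≤ A
  ne_top : A ≠ ⊤
  expo : ∀ u ∈ A, u ^ q ∈ K
  fpf : ∀ w : G, w ∉ A → ∀ u ∈ A, ⁅w, u⁆ ∈ K → u ∈ K

namespace Frob

variable {A K : Subgroup G} [A.Normal] [K.Normal] {q : ℕ} (F : Frob A K q)

include F

/-- The outside fixes no linear character of the section. -/
theorem fix_eq_one {x : G} (hx : x ∉ A) {lam : A →* ℂˣ} (hK : ∀ k : A, (k : G) ∈ K → lam k = 1)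
    (hfix : ∀ k : A, lam (conjN x k) = lam k) : lam = 1 := by
  set L := K.subgroupOf A
  let X : A ⧸ L → A ⧸ L := fun z => ((conjN x z.out : A) : A ⧸ L) * z⁻¹
  have hX : Function.Injective X := fun a b e => by
    have hm : ∀ z : A ⧸ L, ((conjN x z.out : A) : A ⧸ L) = X z * z := fun z =>
      (inv_mul_cancel_right _ _).symm
    have h1 : ((conjN x (a.out⁻¹ * b.out) : A) : A ⧸ L) = a⁻¹ * b := by
      rw [show conjN x (a.out⁻¹ * b.out) = (conjN x a.out)⁻¹ * conjN x b.out from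
        Subtype.ext (by simp [mul_assoc]), QuotientGroup.mk_mul, QuotientGroup.mk_inv, hm, hm, e]
      group
    have h2 : ((a.out⁻¹ * b.out : A) : A ⧸ L) = a⁻¹ * b := by
      rw [QuotientGroup.mk_mul, QuotientGroup.mk_inv, QuotientGroup.out_eq', QuotientGroup.out_eq']
    set w := a.out⁻¹ * b.out
    have h3 : conjN x w * w⁻¹ ∈ L := (QuotientGroup.eq_one_iff _).mp (by
      rw [QuotientGroup.mk_mul, QuotientGroup.mk_inv, h1, h2, mul_inv_cancel])
    have h4 : w ∈ L := F.fpf x hx w w.2 (by simpa [commutatorElement_def, L, Subgroup.mem_subgroupOf] using h3)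
    rw [← inv_mul_eq_one, ← h2]
    exact (QuotientGroup.eq_one_iff _).mpr h4
  refine MonoidHom.ext fun u => ?_
  obtain ⟨z, hz⟩ := (Finite.injective_iff_surjective.mp hX) (u : A ⧸ L)
  have h5 : (((conjN x z.out * z.out⁻¹ : A)) : A ⧸ L) = (u : A ⧸ L) := by
    rw [QuotientGroup.mk_mul, QuotientGroup.mk_inv, QuotientGroup.out_eq']
    exact hz
  have h7 := QuotientGroup.eq.mp h5
  have h6 := hK _ (Subgroup.mem_subgroupOf.mp h7)
  rw [map_mul, map_inv, map_mul, map_inv, hfix, mul_inv_cancel, inv_one, one_mul] at h6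
  rw [h6, MonoidHom.one_apply]

/-- A character moved by all outside elements induces irreducibly. -/
theorem deg_of_free {ψ : A → ℂ} (hψ : Cfsg.IsIrrCharacter A ψ)
    (hfree : ∀ x : G, x ∉ A → conjFn x ψ ≠ ψ) :
    ∃ χ : G → ℂ, Cfsg.IsIrrCharacter G χ ∧
      Cfsg.charDegree χ = A.index * Cfsg.charDegree ψ := by
  have := Fintype.ofFinite G
  have := Fintype.ofFinite A
  obtain ⟨χ, hχ, hne⟩ := Degrees.exists_over A hψ
  refine ⟨χ, hχ, Nat.dvd_antisymm ?_ ?_⟩
  · obtain ⟨e, he, hef⟩ := degree_quot_dvd_index hχ hψ hne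
    rw [charDegree_mul_of_apply_one hχ hψ he]
    exact Nat.mul_dvd_mul_right hef _
  · have hI : inertia ψ = A := le_antisymm
      (fun x hx => by_contra fun h => hfree x h (mem_inertia_iff_conjFn.mp hx))
      (le_inertia (Char.irr_isClassFunction hψ))
    have h := Degrees.index_inertia_mul_dvd A hψ hχ hne
    rwa [hI] at h

/-- The index is a degree. -/
theorem exists_deg_index : ∃ χ : G → ℂ, Cfsg.IsIrrCharacter G χ ∧ Cfsg.charDegree χ = A.index := by
  have := Fintype.ofFinite G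
  obtain ⟨lam, hlK, hlne⟩ := ThreeDeg.exists_linear_quot_ne_one A K F.ab F.lt
  obtain ⟨χ, hχ, hd⟩ := F.deg_of_free (Char.isIrrCharacter_linear lam) fun x hx he =>
    hlne (F.fix_eq_one hx hlK fun k => Units.ext (congr_fun he k))
  have h1 : Cfsg.charDegree (fun g : A => (lam g : ℂ)) = 1 :=
    (Palfy.charDegree_eq_one_iff (Char.isIrrCharacter_linear lam)).mp (by simp)
  exact ⟨χ, hχ, by rw [hd, h1, mul_one]⟩

theorem index_ne_one : A.index ≠ 1 := fun h => F.ne_top (Subgroup.index_eq_one.mp h)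

/-- The prime of the section divides the nonlinear degrees of `A`. -/
theorem dvd_deg (H : NoDiv G) {ψ : A → ℂ} (hψ : Cfsg.IsIrrCharacter A ψ)
    (h1 : Cfsg.charDegree ψ ≠ 1) : q ∣ Cfsg.charDegree ψ := by
  classical
  have := Fintype.ofFinite G
  have := Fintype.ofFinite A
  have := Fact.mk F.hq
  by_contra hqd
  set K' := K.subgroupOf A with hK'
  have := Fintype.ofFinite K'
  obtain ⟨m, hm⟩ : ∃ m, Nat.card (A ⧸ K') = q ^ m := by
    refine IsPGroup.iff_card.mp fun x => ?_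
    obtain ⟨x, rfl⟩ := QuotientGroup.mk_surjective x
    refine ⟨1, ?_⟩
    rw [pow_one, ← QuotientGroup.mk_pow, QuotientGroup.eq_one_iff]
    exact F.expo x x.2
  obtain ⟨φ, hφ, hφne⟩ := exists_irr_constituent_restrict (N := K') hψ
  obtain ⟨e, he, hei⟩ := degree_quot_dvd_index hψ hφ hφne
  rw [Subgroup.index_eq_card, hm] at hei
  have he1 : e = 1 := Nat.eq_one_of_dvd_coprimes ((F.hq.coprime_iff_not_dvd.mpr hqd).pow_left m) hei
    ⟨_, charDegree_mul_of_apply_one hψ hφ he⟩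
  have hres : (fun x : K' => ψ x) = φ := by
    obtain ⟨R, hR, hRe⟩ := exists_add_of_constituent
      (Char.isCharacter_restrict (Char.irr_isCharacter hψ) K') hφ hφne
    have hR1 : R 1 = 0 := by
      have h2 := congr_fun hRe 1
      simp only [OneMemClass.coe_one, Pi.add_apply, he, he1, Nat.cast_one, one_mul] at h2
      simpa using h2
    rw [hRe, eq_zero_of_apply_one_eq_zero hR hR1, add_zero]
  -- the twists
  let tw : (A →* ℂˣ) → A → ℂ := fun lam x => (lam x : ℂ) * ψ x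
  have htw : ∀ lam, Cfsg.IsIrrCharacter A (tw lam) := fun lam => Char.isIrrCharacter_mul_linear hψ lam
  have htwinj : ∀ μ ν : A →* ℂˣ, (∀ k : A, (k : G) ∈ K → μ k = 1) →
      (∀ k : A, (k : G) ∈ K → ν k = 1) → tw μ = tw ν → μ = ν := by
    intro μ ν hμ hν he'
    by_contra hne'
    have h2 := classInner_mul_mul K' (Char.irr_isCharacter hψ) (hres ▸ hφ)
      (fun x => (μ x : ℂ)) (fun x => (ν x : ℂ))
      (fun k x => by rw [map_mul, hμ _ k.2, one_mul])
      (fun k x => by rw [map_mul, hν _ k.2, one_mul])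
    have h3 : Cfsg.classInner (fun x => (μ x : ℂ)) (fun x => (ν x : ℂ)) = 0 :=
      Char.irr_classInner_ne (Char.isIrrCharacter_linear μ) (Char.isIrrCharacter_linear ν)
        fun h4 => hne' (MonoidHom.ext fun x => Units.ext (congr_fun h4 x))
    rw [h3, show ψ * (fun x => (μ x : ℂ)) = tw μ from funext fun x => mul_comm _ _,
      show ψ * (fun x => (ν x : ℂ)) = tw μ from (funext fun x => mul_comm _ _).trans he'.symm,
      Char.irr_classInner_self (htw μ)] at h2
    exact one_ne_zero h2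
  suffices ∃ μ : A →* ℂˣ, ∀ x : G, x ∉ A → conjFn x (tw μ) ≠ tw μ by
    obtain ⟨μ, hμ⟩ := this
    obtain ⟨χ, hχ, hd⟩ := F.deg_of_free (htw μ) hμ
    have hd2 : Cfsg.charDegree (tw μ) = Cfsg.charDegree ψ := by
      have := charDegree_mul_of_apply_one (htw μ) hψ (e := 1) (by simp [tw])
      rwa [one_mul] at this
    rw [hd2] at hd
    obtain ⟨χf, hχf, hdf⟩ := F.exists_deg_index
    have h := H χf χ hχf hχ (hdf ▸ F.index_ne_one) ⟨_, hdf.symm ▸ hd⟩
    rw [hdf, hd] at h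
    exact h1 (Nat.eq_of_mul_eq_mul_left (Nat.pos_of_ne_zero A.index_ne_zero_of_finite)
      (h.symm.trans (mul_one _).symm))
  by_contra hcon
  push Not at hcon
  obtain ⟨lam₀, hl0, hl0ne⟩ := ThreeDeg.exists_linear_quot_ne_one A K F.ab F.lt
  obtain ⟨x, hxA, hx⟩ := hcon 1
  obtain ⟨z, hzA, hz⟩ := hcon lam₀
  have hone : tw 1 = ψ := funext fun u => by simp [tw]
  rw [hone] at hx
  have hzK : ∀ k : A, (k : G) ∈ K → ψ (conjN z k) = ψ k := fun k hk => by
    have h2 := congr_fun hz k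
    simp only [conjFn_apply, tw, hl0 k hk, hl0 _ (show ((conjN z k : A) : G) ∈ K from
      (inferInstance : K.Normal).conj_mem _ hk z), Units.val_one, one_mul] at h2
    exact h2
  have habA' : ∀ s t : A, s * t * s⁻¹ * t⁻¹ ∈ K' := fun s t => by
    rw [Subgroup.mem_subgroupOf]
    exact F.ab (Subgroup.commutator_mem_commutator s.2 t.2)
  have hinvK : ∀ s : A, conjFn s φ = φ := fun s => by
    rw [← hres]; funext k
    exact Char.irr_isClassFunction hψ (k : A) s
  obtain ⟨μ, hμK, hμ⟩ := exists_twist_of_abelian_quot habA' hφ hinvK hψ (isIrrCharacter_conjFn hψ z)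
    (by rw [hres, Char.irr_classInner_self hφ]; exact one_ne_zero)
    (by
      rw [show (fun k : K' => conjFn z ψ k) = φ from by
        rw [← hres]; funext k; exact hzK k k.2, Char.irr_classInner_self hφ]
      exact one_ne_zero)
  have hμK' : ∀ k : A, (k : G) ∈ K → μ k = 1 := fun k hk => hμK ⟨k, hk⟩
  let μx : A →* ℂˣ := μ.comp (MulAut.conjNormal (H := A) x).toMonoidHom
  have hxz : conjFn x (conjFn z ψ) = conjFn z ψ := by
    rw [conjFn_conjFn, show (z * x) = ⁅z, x⁆ * (x * z) by rw [commutatorElement_def]; group,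
      ← conjFn_conjFn, mem_inertia_iff_conjFn.mp (le_inertia (Char.irr_isClassFunction hψ) (F.comm
        (Subgroup.commutator_mem_commutator (Subgroup.mem_top z) (Subgroup.mem_top x)))),
      ← conjFn_conjFn, hx]
  have hμeq : μx = μ := by
    refine htwinj μx μ (fun k hk => hμK' _ ((inferInstance : K.Normal).conj_mem _ hk x)) hμK'
      (funext fun k => ?_)
    have h2 := congr_fun hxz k
    rw [hμ] at h2
    simp only [conjFn_apply] at h2
    rw [show ψ (conjN x k) = ψ k from congr_fun hx k] at h2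
    exact h2
  have hμ1 : μ = 1 := F.fix_eq_one hxA hμK' fun k => DFunLike.congr_fun hμeq k
  have hzψ : conjFn z ψ = ψ := by rw [hμ, hμ1]; funext u; simp
  refine hl0ne (F.fix_eq_one hzA hl0 fun k => ?_)
  have hly : lam₀.comp (MulAut.conjNormal (H := A) z).toMonoidHom = lam₀ := by
    refine htwinj _ lam₀ (fun k hk => hl0 _ ((inferInstance : K.Normal).conj_mem _ hk z)) hl0
      (funext fun k => ?_)
    have h2 := congr_fun hz k
    simp only [conjFn_apply, tw] at h2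
    rw [show ψ (conjN z k) = ψ k from congr_fun hzψ k] at h2
    exact h2
  exact DFunLike.congr_fun hly k

end Frob

/-- Two components: there are exactly three degrees. -/
theorem card_charDegrees [Group.IsSolvable G] (H : NoDiv G)
    (htwo : Nat.card ((Cfsg.degreeGraph G).induce (Cfsg.degreePrimes G)).ConnectedComponent = 2) :
    Nat.card ↥(Cfsg.charDegrees G) = 3 := by
  classical
  have := Fintype.ofFinite G
  have hdeg : ∀ χ : G → ℂ, Cfsg.IsIrrCharacter G χ → Cfsg.charDegree χ ∈ Cfsg.charDegrees G :=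
    fun χ hχ => ⟨⟨χ, hχ⟩, rfl⟩
  have hna : ¬ commutator G ≤ ⊥ := by
    intro h
    have hab : ∀ a b : G, a * b = b * a := fun a b => commutatorElement_eq_one_iff_mul_comm.mp
      (Subgroup.mem_bot.mp (h (Subgroup.commutator_mem_commutator (Subgroup.mem_top a) (Subgroup.mem_top b))))
    have : IsEmpty (Cfsg.degreePrimes G) := ⟨fun ⟨p, hp, d, ⟨χ, hd⟩, hpd⟩ => by
      rw [← hd, (Palfy.charDegree_eq_one_iff χ.2).mp (Char.irr_degree_one_of_comm hab χ.2)] at hpd
      exact hp.ne_one (Nat.dvd_one.mp hpd)⟩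
    have : IsEmpty ((Cfsg.degreeGraph G).induce (Cfsg.degreePrimes G)).ConnectedComponent :=
      ⟨fun c => by induction c using SimpleGraph.ConnectedComponent.ind with | h v => exact isEmptyElim v⟩
    rw [Nat.card_of_isEmpty] at htwo
    omega
  obtain ⟨K, A, hKn, hAn, q, hq, hKA, hab, hcA, hcase⟩ := exists_section hna
  rcases hcase with ⟨hpq, hnaK⟩ | ⟨hAtop, hexp, hfpf⟩
  · exfalso
    obtain ⟨χ, hχ⟩ : ∃ χ : Cfsg.IrrCharacter G, (χ : G → ℂ) 1 ≠ 1 := by
      by_contra! hall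
      have hc := Char.comm_iff_forall_degree_one.mpr hall
      exact hna (Subgroup.commutator_le.mpr fun a _ b _ => Subgroup.mem_bot.mpr
        (commutatorElement_eq_one_iff_mul_comm.mpr (hc a b)))
    have hχd : Cfsg.charDegree (χ : G → ℂ) ≠ 1 := fun h => hχ ((Palfy.charDegree_eq_one_iff χ.2).mpr h)
    have hqv : q ∈ Cfsg.degreePrimes G :=
      ⟨hq, _, hdeg _ χ.2, dvd_of_pGroup_quot H K hq hpq hnaK χ.2 hχd⟩
    refine false_of_hub htwo hqv fun p hp => ?_
    obtain ⟨hpp, d, ⟨η, hd⟩, hpd⟩ := id hp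
    refine reachable_of_dvd ⟨η, hd⟩ hp hqv hpd (hd ▸ dvd_of_pGroup_quot H K hq hpq hnaK η.2 ?_)
    intro h1
    rw [← hd, h1] at hpd
    exact hpp.ne_one (Nat.dvd_one.mp hpd)
  have F : Frob A K q := ⟨hq, hKA, hab, hcA, hAtop, hexp, hfpf⟩
  obtain ⟨χf, hχf, hdf⟩ := F.exists_deg_index
  have hf1 : A.index ≠ 1 := F.index_ne_one
  have := Fintype.ofFinite A
  have hover : ∀ {χ : G → ℂ}, Cfsg.IsIrrCharacter G χ → ∀ {ψ : A → ℂ}, Cfsg.IsIrrCharacter A ψ →
      Cfsg.classInner (fun m : A => χ m) ψ ≠ 0 →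
      ∃ e : ℕ, χ 1 = (e : ℂ) * ψ 1 ∧ e ∣ A.index ∧ Cfsg.charDegree χ = e * Cfsg.charDegree ψ := by
    intro χ hχ ψ hψ hne
    obtain ⟨e, he, hei⟩ := degree_quot_dvd_index hχ hψ hne
    exact ⟨e, he, hei, charDegree_mul_of_apply_one hχ hψ he⟩
  have hclass : ∀ χ : G → ℂ, Cfsg.IsIrrCharacter G χ →
      Cfsg.charDegree χ = 1 ∨ Cfsg.charDegree χ = A.index ∨ q ∣ Cfsg.charDegree χ := by
    intro χ hχ
    obtain ⟨ψ, hψ, hne⟩ := exists_irr_constituent_restrict (N := A) hχ
    obtain ⟨e, -, hei, hd⟩ := hover hχ hψ hne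
    by_cases hψ1 : Cfsg.charDegree ψ = 1
    · rw [hψ1, mul_one] at hd
      by_cases he1 : Cfsg.charDegree χ = 1
      · exact Or.inl he1
      · exact Or.inr (Or.inl ((H χ χf hχ hχf he1 (by rw [hdf, hd]; exact hei)).trans hdf))
    · exact Or.inr (Or.inr (hd ▸ (F.dvd_deg H hψ hψ1).mul_left e))
  have hcop : ∀ χ : G → ℂ, Cfsg.IsIrrCharacter G χ → q ∣ Cfsg.charDegree χ →
      (Cfsg.charDegree χ).Coprime A.index := by
    intro χ hχ hqd
    refine Nat.coprime_of_dvd fun r hr hr1 hr2 => ?_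
    have hqv : q ∈ Cfsg.degreePrimes G := ⟨hq, _, hdeg χ hχ, hqd⟩
    have hrv : r ∈ Cfsg.degreePrimes G := ⟨hr, _, hdeg χ hχ, hr1⟩
    refine false_of_hub htwo hqv fun p hp => ?_
    obtain ⟨hpp, d, ⟨η, hd⟩, hpd⟩ := id hp
    rcases hclass _ η.2 with h | h | h
    · rw [← hd, h] at hpd
      exact absurd (Nat.dvd_one.mp hpd) hpp.ne_one
    · exact (reachable_of_dvd ⟨η, hd⟩ hp hrv hpd (by rw [← hd, h]; exact hr2)).trans
        (reachable_of_dvd (hdeg χ hχ) hrv hqv hr1 hqd)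
    · exact reachable_of_dvd ⟨η, hd⟩ hp hqv hpd (hd ▸ h)
  obtain ⟨f, hf, hff⟩ := Nat.exists_prime_and_dvd hf1
  have := Fact.mk hf
  have := Fact.mk hq
  obtain ⟨ψ₀, hψ₀⟩ : ∃ ψ : Cfsg.IrrCharacter A, (ψ : A → ℂ) 1 ≠ 1 := by
    by_contra! hall
    have hfv : f ∈ Cfsg.degreePrimes G := ⟨hf, _, hdeg χf hχf, hdf ▸ hff⟩
    refine false_of_hub htwo hfv fun p hp => ?_
    obtain ⟨hpp, d, ⟨η, hd⟩, hpd⟩ := id hp
    obtain ⟨ψ, hψ, hne⟩ := exists_irr_constituent_restrict (N := A) η.2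
    obtain ⟨e, -, hei, hde⟩ := hover η.2 hψ hne
    rw [(Palfy.charDegree_eq_one_iff hψ).mp (hall ⟨ψ, hψ⟩), mul_one] at hde
    exact reachable_of_dvd (hdeg χf hχf) hp hfv (hdf ▸ (hd ▸ hpd).trans (hde ▸ hei)) (hdf ▸ hff)
  -- nonlinear characters of `A` extend
  have hext : ∀ ψ : A → ℂ, Cfsg.IsIrrCharacter A ψ → ψ 1 ≠ 1 → ∃ χ : G → ℂ,
      Cfsg.IsIrrCharacter G χ ∧ Cfsg.charDegree χ = Cfsg.charDegree ψ ∧ (∀ a : A, χ a = ψ a) := by
    intro ψ hψ h1
    obtain ⟨χ, hχ, hne⟩ := Degrees.exists_over A hψ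
    obtain ⟨e, he, hei, hd⟩ := hover hχ hψ hne
    have hq' := F.dvd_deg H hψ fun h => h1 ((Palfy.charDegree_eq_one_iff hψ).mpr h)
    have he1 : e = 1 := Nat.eq_one_of_dvd_coprimes (hcop χ hχ (hd ▸ hq'.mul_left e))
      ⟨_, hd⟩ hei
    rw [he1, one_mul] at hd
    refine ⟨χ, hχ, hd, fun a => ?_⟩
    obtain ⟨R, hR, hRe⟩ := exists_add_of_constituent
      (Char.isCharacter_restrict (Char.irr_isCharacter hχ) A) hψ hne
    have hR1 : R 1 = 0 := by
      have h2 := congr_fun hRe 1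
      simp only [OneMemClass.coe_one, Pi.add_apply, he, he1, Nat.cast_one, one_mul] at h2
      simpa using h2
    rw [eq_zero_of_apply_one_eq_zero hR hR1, add_zero] at hRe
    exact congr_fun hRe a
  have hinv : ∀ ψ : A → ℂ, Cfsg.IsIrrCharacter A ψ → ψ 1 ≠ 1 → ∀ x : G, x ∈ inertia ψ := by
    intro ψ hψ h1 x a
    obtain ⟨χ, hχ, -, hres⟩ := hext ψ hψ h1
    rw [← hres, ← hres, coe_conjN]
    exact Char.irr_isClassFunction hχ (a : G) x
  have hqdvd : ∀ ψ : A → ℂ, Cfsg.IsIrrCharacter A ψ → ψ 1 ≠ 1 → q ∣ Cfsg.charDegree ψ :=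
    fun ψ hψ h1 => F.dvd_deg H hψ fun h => h1 ((Palfy.charDegree_eq_one_iff hψ).mpr h)
  have hcopA : ∀ ψ : A → ℂ, Cfsg.IsIrrCharacter A ψ → ψ 1 ≠ 1 →
      (Cfsg.charDegree ψ).Coprime A.index := fun ψ hψ h1 => by
    obtain ⟨χ, hχ, hd, -⟩ := hext ψ hψ h1
    exact hd ▸ hcop χ hχ (hd ▸ hqdvd ψ hψ h1)
  -- the Sylow subgroup and the element of the coset
  obtain ⟨P⟩ := (inferInstance : Nonempty (Sylow q A))
  set Q : Subgroup G := (P : Subgroup A).map A.subtype with hQdef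
  obtain ⟨z, hz⟩ := exists_prime_orderOf_dvd_card' (G := G ⧸ A) f (by rwa [← Subgroup.index_eq_card])
  obtain ⟨w, rfl⟩ := QuotientGroup.mk_surjective z
  obtain ⟨u, hu, n, hn, rfl⟩ := Subgroup.mem_sup_of_normal_right.mp
    ((Sylow.normalizer_sup_eq_top P).ge (Subgroup.mem_top w))
  rw [QuotientGroup.mk_mul, (QuotientGroup.eq_one_iff n).mpr hn, mul_one] at hz
  obtain ⟨k, r, hr, hkr⟩ := Nat.exists_eq_pow_mul_and_not_dvd (orderOf_pos u).ne' f hf.ne_one
  set y := u ^ r with hy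
  have hyA : y ∉ A := fun h => hr (by
    rw [← hz]
    apply orderOf_dvd_of_pow_eq_one
    rw [← QuotientGroup.mk_pow, QuotientGroup.eq_one_iff]
    exact h)
  have hyf : y ^ f ∈ A := by
    rw [hy, ← pow_mul, mul_comm, pow_mul]
    refine pow_mem ((QuotientGroup.eq_one_iff _).mp ?_) r
    rw [QuotientGroup.mk_pow, ← hz, pow_orderOf_eq_one]
  obtain ⟨g, hgQ, hgK⟩ : ∃ g ∈ Q, g ∉ K := by
    by_contra! hall
    have h1 : (P : Subgroup A) ≤ K.subgroupOf A := fun a ha => hall _ ⟨a, ha, rfl⟩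
    have h2 := Subgroup.index_dvd_of_le h1
    obtain ⟨m, hm⟩ := IsPGroup.iff_card.mp (show IsPGroup q (A ⧸ K.subgroupOf A) from fun x => by
      obtain ⟨x, rfl⟩ := QuotientGroup.mk_surjective x
      refine ⟨1, ?_⟩
      rw [pow_one, ← QuotientGroup.mk_pow, QuotientGroup.eq_one_iff]
      exact hexp x x.2)
    rw [← Subgroup.index_eq_card] at hm
    rcases m with - | m
    · rw [pow_zero, Subgroup.index_eq_one, Subgroup.subgroupOf_eq_top] at hm
      exact hKA.not_ge hm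
    · rw [hm] at h2
      exact P.not_dvd_index ((dvd_pow_self q m.succ_ne_zero).trans h2)
  have hgA : g ∈ A := Subgroup.map_subtype_le _ hgQ
  have T : Sit A Q y q f :=
    { hq := hq
      hf := hf
      ne := fun e => hq.not_dvd_one (by
        have h := hqdvd _ ψ₀.2 hψ₀
        have h2 := Nat.dvd_gcd h (e ▸ hff : q ∣ A.index)
        rwa [hcopA _ ψ₀.2 hψ₀] at h2)
      le := Subgroup.map_subtype_le _
      pgroup := P.2.map _
      sylow := by
        rw [Subgroup.relIndex, hQdef, Subgroup.subgroupOf,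
          Subgroup.comap_map_eq_self_of_injective A.subtype_injective]
        exact P.not_dvd_index
      nrm := pow_mem hu r
      ford := ⟨k, by rw [hy, ← pow_mul, mul_comm, ← hkr, pow_orderOf_eq_one]⟩
      fmem := hyf
      moves := ⟨g, hgQ, fun e => hgK (hfpf y hyA g hgA
        (by rw [commutatorElement_eq_one_iff_mul_comm.mpr e]; exact K.one_mem))⟩
      inv := fun ψ hψ h1 => hinv ψ hψ h1 y
      ndvd := fun ψ hψ h1 hd => hf.not_dvd_one (by
        have h2 := Nat.dvd_gcd hd hff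
        rwa [hcopA ψ hψ h1] at h2)
      qdvd := hqdvd
      nd := fun ψ ψ' hψ h1 hψ' h1' hd => by
        obtain ⟨χ, hχ, hd1, -⟩ := hext ψ hψ h1
        obtain ⟨χ', hχ', hd2, -⟩ := hext ψ' hψ' h1'
        rw [← hd1, ← hd2] at hd ⊢
        exact H χ χ' hχ hχ' (fun h => h1 ((Palfy.charDegree_eq_one_iff hψ).mpr (hd1 ▸ h))) hd }
  set b := Cfsg.charDegree (ψ₀ : A → ℂ)
  have hset : Cfsg.charDegrees G = {1, A.index, b} := by
    ext d
    simp only [Set.mem_insert_iff, Set.mem_singleton_iff]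
    constructor
    · rintro ⟨χ, rfl⟩
      rcases hclass _ χ.2 with h | h | h
      · exact Or.inl h
      · exact Or.inr (Or.inl h)
      · refine Or.inr (Or.inr ?_)
        obtain ⟨ψ, hψ, hne⟩ := exists_irr_constituent_restrict (N := A) χ.2
        obtain ⟨e, -, hei, hd⟩ := hover χ.2 hψ hne
        have he1 : e = 1 := Nat.eq_one_of_dvd_coprimes (hcop _ χ.2 h) ⟨_, hd⟩ hei
        rw [he1, one_mul] at hd
        have hψ1 : ψ 1 ≠ 1 := fun h' => hq.not_dvd_one (by
          rw [hd, (Palfy.charDegree_eq_one_iff hψ).mp h'] at h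
          exact h)
        rw [hd]
        exact T.degree_eq hψ hψ1 ψ₀.2 hψ₀
    · rintro (rfl | rfl | rfl)
      · exact ⟨⟨_, Char.isIrrCharacter_one⟩, (Palfy.charDegree_eq_one_iff Char.isIrrCharacter_one).mp rfl⟩
      · exact hdf ▸ hdeg χf hχf
      · obtain ⟨χ, hχ, hd, -⟩ := hext _ ψ₀.2 hψ₀
        show Cfsg.charDegree (ψ₀ : A → ℂ) ∈ _
        rw [← hd]
        exact hdeg χ hχ
  rw [Nat.card_coe_set_eq, Set.ncard_eq_three]
  have hqb := hqdvd _ ψ₀.2 hψ₀
  refine ⟨1, A.index, b, Ne.symm hf1, fun e => hq.not_dvd_one (e ▸ hqb), fun e => ?_, hset⟩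
  have h := hcopA _ ψ₀.2 hψ₀
  rw [e, Nat.coprime_self] at h
  exact hf1 (e.trans h)

end CfsgLib.BlockB.TwoComp
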