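import Cfsg.Agent.Lib.BlockB.TwoComp.AbelianAction
import Mathlib.RingTheory.RootsOfUnity.PrimitiveRoots

/-!
# Maximal stabilisers in an action with normal stabilisers
-/

set_option autoImplicit false

namespace CfsgLib.BlockB.TwoComp

open scoped commutatorElement

universe u v

variable {H : Type u} [Group H] {W : Type v} [CommGroup W] [MulDistribMulAction H W]

variable (H) in
/-- A nontrivial element with maximal stabiliser. -/
def IsMax (w : W) : Prop :=
  w ≠ 1 ∧ ∀ x : W, x ≠ 1 → MulAction.stabilizer H w ≤ MulAction.stabilizer H x →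
    MulAction.stabilizer H w = MulAction.stabilizer H x

variable (H) in
theorem exists_isMax [Finite W] [Finite H] [Nontrivial W] : ∃ w : W, IsMax H w := by
  obtain ⟨w0, hw0⟩ := exists_ne (1 : W)
  have : Nonempty {w : W // w ≠ 1} := ⟨⟨w0, hw0⟩⟩
  obtain ⟨⟨w, hw⟩, hmax⟩ :=
    Finite.exists_max fun x : {w : W // w ≠ 1} => Nat.card (MulAction.stabilizer H (x : W))
  exact ⟨w, hw, fun x hx hle => Subgroup.eq_of_le_of_card_ge hle (hmax ⟨x, hx⟩)⟩

theorem le_stabilizer_delta (hn : ∀ (a : H) (w : W),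
      MulAction.stabilizer H (a • w) = MulAction.stabilizer H w) (d : H) (w : W) :
    MulAction.stabilizer H w ≤ MulAction.stabilizer H (delta d w) := fun c hc => by
  have h1 : c • d • w = d • w := MulAction.mem_stabilizer_iff.mp ((hn d w).ge hc)
  rw [MulAction.mem_stabilizer_iff, delta_apply, smul_div', h1, MulAction.mem_stabilizer_iff.mp hc]

/-- Two elements of distinct maximal stabilisers determine those by their product. -/
theorem isMax_pair (hn : ∀ (a : H) (w : W),
      MulAction.stabilizer H (a • w) = MulAction.stabilizer H w)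
    {b1 b2 g1 g2 : W} (hb1 : IsMax H b1) (hb2 : IsMax H b2) (hg1 : IsMax H g1) (hg2 : IsMax H g2)
    (hg : MulAction.stabilizer H g1 ≠ MulAction.stabilizer H g2) (e : b1 * b2 = g1 * g2) :
    MulAction.stabilizer H g1 = MulAction.stabilizer H b1 ∨
      MulAction.stabilizer H g1 = MulAction.stabilizer H b2 := by
  by_contra! hne
  have hex : ∀ {b : W}, IsMax H b → MulAction.stabilizer H g1 ≠ MulAction.stabilizer H b →
      ∃ a ∈ MulAction.stabilizer H b, a ∉ MulAction.stabilizer H g1 := fun {b} hb hne' => by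
    by_contra! hall
    exact hne' (hb.2 g1 hg1.1 hall).symm
  obtain ⟨a, ha, ha'⟩ := hex hb1 hne.1
  obtain ⟨b, hb, hb'⟩ := hex hb2 hne.2
  obtain ⟨c, hc, hc'⟩ := hex hg2 hg
  have hstep : ∀ (d : H) (x : W), d ∉ MulAction.stabilizer H g1 → x ≠ 1 →
      MulAction.stabilizer H g1 ≤ MulAction.stabilizer H x →
      delta d x ≠ 1 ∧ MulAction.stabilizer H g1 ≤ MulAction.stabilizer H (delta d x) :=
    fun d x hd hx hle => ⟨fun h => hd ((hg1.2 x hx hle).ge (delta_eq_one.mp h)),
      hle.trans (le_stabilizer_delta hn d x)⟩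
  obtain ⟨n1, l1⟩ := hstep a g1 ha' hg1.1 le_rfl
  obtain ⟨n2, l2⟩ := hstep b _ hb' n1 l1
  obtain ⟨n3, -⟩ := hstep c _ hc' n2 l2
  have h1 : delta a b1 = 1 := delta_eq_one.mpr ha
  have h2 : delta b (delta a b2) = 1 := delta_eq_one.mpr (le_stabilizer_delta hn a b2 hb)
  have h3 : delta c (delta b (delta a g2)) = 1 :=
    delta_eq_one.mpr (le_stabilizer_delta hn b _ (le_stabilizer_delta hn a g2 hc))
  have he := congrArg (fun z => delta c (delta b (delta a z))) e
  simp only [map_mul, h1, h2, h3, map_one, one_mul, mul_one] at he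
  exact n3 he.symm

/-- The quotient by a maximal stabiliser is cyclic, the action being coprime. -/
theorem isCyclic_of_isMax [Finite H] [Finite W] (hn : ∀ (a : H) (w : W),
      MulAction.stabilizer H (a • w) = MulAction.stabilizer H w)
    {w : W} (hw : IsMax H w) [(MulAction.stabilizer H w).Normal]
    (hcomm : commutator H ≤ MulAction.stabilizer H w)
    (hcop : (MulAction.stabilizer H w).index.Coprime (Nat.card W)) :
    IsCyclic (H ⧸ MulAction.stabilizer H w) := by
  set X := MulAction.stabilizer H w with hX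
  let U : Subgroup W :=
    { carrier := {x | ∀ a ∈ X, a • x = x}
      one_mem' := fun a _ => smul_one a
      mul_mem' := fun {x y} hx hy a ha => by rw [smul_mul', hx a ha, hy a ha]
      inv_mem' := fun {x} hx a ha => by rw [smul_inv', hx a ha] }
  have hU : ∀ (h : H), ∀ x ∈ U, h • x ∈ U := fun h x hx a ha => by
    have hle : X ≤ MulAction.stabilizer H x := fun c hc => hx c hc
    exact MulAction.mem_stabilizer_iff.mp ((hn h x).ge (hle ha))
  let ρ : H →* MulAut U := MonoidHom.mk'
    (fun h => { toFun := fun x => ⟨h • (x : W), hU h x x.2⟩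
                invFun := fun x => ⟨h⁻¹ • (x : W), hU h⁻¹ x x.2⟩
                left_inv := fun x => Subtype.ext (inv_smul_smul h _)
                right_inv := fun x => Subtype.ext (smul_inv_smul h _)
                map_mul' := fun x y => Subtype.ext (smul_mul' h _ _) })
    (fun a b => MulEquiv.ext fun x => Subtype.ext (mul_smul a b _))
  let φ : H ⧸ X →* MulAut U := QuotientGroup.lift X ρ fun a ha =>
    MonoidHom.mem_ker.mpr (MulEquiv.ext fun x => Subtype.ext (x.2 a ha))
  have : IsMulCommutative (H ⧸ X) := ⟨⟨fun p q => by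
    obtain ⟨a, rfl⟩ := QuotientGroup.mk_surjective p
    obtain ⟨b, rfl⟩ := QuotientGroup.mk_surjective q
    rw [← commutatorElement_eq_one_iff_mul_comm]
    exact (map_commutatorElement (QuotientGroup.mk' X) a b).symm.trans
      ((QuotientGroup.eq_one_iff _).mpr (hcomm
        (Subgroup.commutator_mem_commutator (Subgroup.mem_top a) (Subgroup.mem_top b))))⟩⟩
  have : Nontrivial U := ⟨⟨⟨w, fun a ha => ha⟩, 1, fun h => hw.1 (congrArg Subtype.val h)⟩⟩
  by_contra hnc
  obtain ⟨q, hq, x, hx, hqx⟩ := Coprime.exists_ne_one_fixed_of_not_isCyclic φ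
    (hcop.coprime_dvd_right (Subgroup.card_subgroup_dvd_card U)) hnc
  obtain ⟨a, rfl⟩ := QuotientGroup.mk_surjective q
  refine hq ((QuotientGroup.eq_one_iff a).mpr ?_)
  exact (hw.2 (x : W) (fun h => hx (Subtype.ext h)) fun c hc => x.2 c hc).ge
    (show a • (x : W) = x from congrArg Subtype.val hqx)

/-- The linear characters of exponent `l` of a cyclic quotient form a line. -/
theorem mem_zpowers_of_cyclic {A : Type u} [Group A] (X : Subgroup A) [X.Normal]
    [IsCyclic (A ⧸ X)] {l : ℕ} (hl : l.Prime) {f g : A →* ℂˣ} (hf : ∀ a ∈ X, f a = 1)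
    (hg : ∀ a ∈ X, g a = 1) (hfl : f ^ l = 1) (hgl : g ^ l = 1) (hg1 : g ≠ 1) :
    f ∈ Subgroup.zpowers g := by
  obtain ⟨c, hc⟩ := IsCyclic.exists_generator (α := A ⧸ X)
  obtain ⟨x, rfl⟩ := QuotientGroup.mk_surjective c
  have hdet : ∀ h : A →* ℂˣ, (∀ a ∈ X, h a = 1) → ∀ a : A, ∀ i : ℤ,
      ((x : A ⧸ X)) ^ i = (a : A ⧸ X) → h a = h x ^ i := fun h hh a i hi => by
    rw [← QuotientGroup.mk_zpow, QuotientGroup.eq] at hi
    have h2 := hh _ hi
    rw [map_mul, map_inv, map_zpow, inv_mul_eq_one] at h2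
    exact h2.symm
  have hgx : g x ≠ 1 := fun e => hg1 (MonoidHom.ext fun a => by
    obtain ⟨i, hi⟩ := Subgroup.mem_zpowers_iff.mp (hc a)
    rw [hdet g hg a i hi, e, one_zpow, MonoidHom.one_apply])
  have hp : IsPrimitiveRoot ((g x : ℂˣ) : ℂ) l := by
    have h1 : orderOf (g x) = l := by
      have := Fact.mk hl
      exact orderOf_eq_prime (by rw [← MonoidHom.pow_apply, hgl, MonoidHom.one_apply]) hgx
    rw [← h1, ← orderOf_units]
    exact IsPrimitiveRoot.orderOf _
  have : NeZero l := ⟨hl.ne_zero⟩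
  obtain ⟨k, -, hk⟩ := hp.eq_pow_of_pow_eq_one (ξ := ((f x : ℂˣ) : ℂ))
    (by rw [← Units.val_pow_eq_pow_val, ← MonoidHom.pow_apply, hfl, MonoidHom.one_apply, Units.val_one])
  have hk' : f x = g x ^ k := Units.ext (by rw [Units.val_pow_eq_pow_val, hk])
  refine Subgroup.mem_zpowers_iff.mpr ⟨k, MonoidHom.ext fun a => ?_⟩
  obtain ⟨i, hi⟩ := Subgroup.mem_zpowers_iff.mp (hc a)
  rw [zpow_natCast, MonoidHom.pow_apply, hdet g hg a i hi, hdet f hf a i hi, hk', ← zpow_natCast,
    ← zpow_natCast, ← zpow_mul, ← zpow_mul, mul_comm]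

end CfsgLib.BlockB.TwoComp
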