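import Cfsg.Agent.Lib.BlockB.TwoComp.Outside
import Cfsg.Agent.Lib.BlockB.TwoComp.Maximal
import Cfsg.Agent.Lib.Solvable.Nilpotent

/-!
# The noncentral case: the second derived group is moved by the derived group
-/

set_option autoImplicit false

namespace CfsgLib.BlockB.TwoComp

open CfsgLib CfsgLib.Clifford
open CfsgLib.BlockB.Palfy (dualAction linFn mem_inertia_linFn)
open scoped commutatorElement

universe u

variable {G : Type u} [Group G]

section Generic

variable {H : Type u} [Group H] {W : Type u} [CommGroup W] [MulDistribMulAction H W]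

theorem smul_pow_eq_one (e : H) {w : W} {l : ℕ} (h : w ^ l = 1) : (e • w) ^ l = 1 := by
  rw [← smul_pow', h, smul_one]

theorem smul_ne_one (e : H) {w : W} (h : w ≠ 1) : e • w ≠ 1 := fun h' => h (by
  simpa using congrArg (e⁻¹ • ·) h')

theorem exists_order_prime {l : ℕ} [hl : Fact l.Prime] (hW : IsPGroup l W) {u : W} (hu : u ≠ 1) :
    ∃ i : ℕ, u ^ i ≠ 1 ∧ (u ^ i) ^ l = 1 := by
  obtain ⟨c, hc⟩ := IsPGroup.iff_orderOf.mp hW u
  obtain ⟨c, rfl⟩ : ∃ i, c = i + 1 := Nat.exists_eq_add_one.mpr (Nat.pos_of_ne_zero fun h =>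
    hu (orderOf_eq_one_iff.mp (by rw [hc, h, pow_zero])))
  refine ⟨l ^ c, fun e => ?_, by rw [← pow_mul, ← pow_succ, ← hc, pow_orderOf_eq_one]⟩
  have := orderOf_dvd_of_pow_eq_one e
  rw [hc, Nat.pow_dvd_pow_iff_le_right hl.out.one_lt] at this
  omega

theorem zpow_of_sq_eq_one {v w : W} (hv : v ^ 2 = 1) (hw : w ≠ 1) (h : w ∈ Subgroup.zpowers v) :
    w = v := by
  obtain ⟨i, rfl⟩ := Subgroup.mem_zpowers_iff.mp h
  have h2 : v ^ (2 : ℤ) = 1 := by exact_mod_cast hv
  rcases Int.even_or_odd' i with ⟨j, rfl | rfl⟩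
  · exact absurd (by rw [zpow_mul, h2, one_zpow]) hw
  · rw [zpow_add_one, zpow_mul, h2, one_zpow, one_mul]

theorem stab_eq_of_mul_eq_one {v w : W} (h : v * w = 1) :
    MulAction.stabilizer H w = MulAction.stabilizer H v := by
  rw [eq_inv_of_mul_eq_one_right h]
  ext a
  simp [MulAction.mem_stabilizer_iff, smul_inv']

theorem Semi.eq_two [Finite H] [Finite W] {σ : H ≃* H} {τ : W ≃* W} {R : Subgroup H} {l : ℕ}
    (Se : Semi σ τ R 2) (hl : l.Prime) (hW : IsPGroup l W) : l = 2 := by
  obtain ⟨w₁, hw₁⟩ : ∃ w₁ : W, τ w₁ ≠ w₁ := by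
    by_contra! hall
    obtain ⟨g, hg⟩ := Se.nontriv
    obtain ⟨v, hv⟩ := @exists_ne W Se.nontrivW 1
    exact hg (Se.mem_fixed_of_fix hv (hall v) (hall _))
  have hper : τ (τ w₁) = w₁ := Se.per w₁
  set w := τ w₁ / w₁ with hwdef
  have hw1 : w ≠ 1 := fun e => hw₁ (div_eq_one.mp e)
  have htw : τ w = w⁻¹ := by rw [hwdef, map_div, hper, inv_div]
  obtain ⟨k, hk⟩ := Se.exists_fix hw1
  rw [Se.semi, htw] at hk
  have ht : (k⁻¹ * σ k) • w⁻¹ = w := by rw [mul_smul, hk, inv_smul_smul]
  have ht' : (k⁻¹ * σ k) • w = w⁻¹ := by exact inv_injective (by rw [inv_inv, ← smul_inv', ht])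
  have htR : (k⁻¹ * σ k) ^ 2 ∈ R := Se.mem_of_smul_eq hw1 (by rw [sq, mul_smul, ht', ht])
  have hww : w⁻¹ = w := ht'.symm.trans (Se.smul_eq (Se.mem_of_pow_mem htR) w)
  have := Fact.mk hl
  obtain ⟨i, hi⟩ := IsPGroup.iff_orderOf.mp hW w
  have h2 : orderOf w ∣ 2 := orderOf_dvd_of_pow_eq_one (by
    rw [sq]; exact (congrArg (· * w) hww.symm).trans (inv_mul_cancel w))
  rw [hi] at h2
  rcases i with - | i
  · exact absurd (orderOf_eq_one_iff.mp (by rw [hi, pow_zero])) hw1
  · exact (Nat.prime_dvd_prime_iff_eq hl Nat.prime_two).mp ((dvd_pow_self l i.succ_ne_zero).trans h2)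

end Generic

section Transport

variable (A B : Subgroup G) [A.Normal] [B.Normal]

theorem dual_smul_eq (a : A) (β : B →* ℂˣ) :
    letI := dualAction A B
    a • β = dualAut B (a : G) β := rfl

/-- Stabilisers are moved along by conjugation. -/
theorem mem_stab_dualAut (g : G) (β : B →* ℂˣ) (a : A) :
    letI := dualAction A B
    a ∈ MulAction.stabilizer A (dualAut B g β) ↔ conjN g⁻¹ a ∈ MulAction.stabilizer A β := by
  letI := dualAction A B
  rw [MulAction.mem_stabilizer_iff, MulAction.mem_stabilizer_iff, dual_smul_eq, dual_smul_eq,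
    ← dualAut_mul, show (a : G) * g = g * (conjN g⁻¹ a : A) by simp [mul_assoc], dualAut_mul,
    (dualAut B g).injective.eq_iff]

theorem isMax_dualAut (g : G) {β : B →* ℂˣ}
    (h : letI := dualAction A B; IsMax A β) :
    letI := dualAction A B
    IsMax A (dualAut B g β) := by
  letI := dualAction A B
  refine ⟨fun e => h.1 ((dualAut B g).injective (e.trans (map_one _).symm)), fun x hx hle => ?_⟩
  obtain ⟨x', rfl⟩ := (dualAut B g).surjective x
  have hle' : MulAction.stabilizer A β ≤ MulAction.stabilizer A x' := fun a ha => by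
    have ha' : conjN g a ∈ MulAction.stabilizer A (dualAut B g β) := by
      rw [mem_stab_dualAut]; convert ha using 1; exact Subtype.ext (by simp [mul_assoc])
    have h2 := hle ha'
    rw [mem_stab_dualAut] at h2
    convert h2 using 1
    exact Subtype.ext (by simp [mul_assoc])
  have e := h.2 x' (fun e => hx (by rw [e, map_one])) hle'
  ext a
  rw [mem_stab_dualAut, mem_stab_dualAut, e]

/-- The annihilator of a stabiliser is moved along. -/
theorem dualAut_apply_stab (g : G) {β : B →* ℂˣ} {w : A →* ℂˣ}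
    (h : letI := dualAction A B; ∀ a ∈ MulAction.stabilizer A β, w a = 1) :
    letI := dualAction A B
    ∀ a ∈ MulAction.stabilizer A (dualAut B g β), dualAut A g w a = 1 := fun a ha => by
  rw [dualAut_apply]
  exact h _ ((mem_stab_dualAut A B g β a).mp ha)

end Transport

variable [Finite G] {N H0 : Subgroup G} [N.Normal] {y : G} {f : ℕ}

namespace Split

variable (S : Split N H0 y f)

include S

/-- The noncentral case is impossible. -/
theorem false_of_noncentral [Group.IsSolvable G] (hB : ⁅⁅N, N⁆, ⁅N, N⁆⁆ ≠ (⊥ : Subgroup G))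
    (hmin : ∀ K : Subgroup G, K.Normal → K ≤ ⁅⁅N, N⁆, ⁅N, N⁆⁆ → K = ⊥ ∨ K = ⁅⁅N, N⁆, ⁅N, N⁆⁆)
    (hnc : ¬ ∀ b ∈ ⁅⁅N, N⁆, ⁅N, N⁆⁆, ∀ a ∈ ⁅N, N⁆, a * b = b * a) : False := by
  classical
  set A : Subgroup G := ⁅N, N⁆ with hAdef
  set B : Subgroup G := ⁅A, A⁆ with hBdef
  letI := dualAction H0 A
  letI := dualAction A B
  have hA : A ≠ ⊥ := fun e => hB (by rw [hBdef, e, Subgroup.commutator_bot_left])
  obtain ⟨R, Se, -, ψ₀, hψ₀, hψ₀1, hd⟩ := S.semi hA
  have : Finite (A →* ℂˣ) := Palfy.finite_linear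
  have : Finite (B →* ℂˣ) := Palfy.finite_linear
  have hBA : B ≤ A := Subgroup.commutator_le_right A A
  have hmemB : ∀ a : A, a ∈ commutator A ↔ (a : G) ∈ B := fun a => Palfy.mem_commutator_subgroup
  have hcB : IsMulCommutative B := Solvable.isMulCommutative_of_minimal_normal hB hmin
  have hcB' : ∀ a b : B, a * b = b * a := fun a b => hcB.is_comm.comm a b
  obtain ⟨p, hp, hexp⟩ := Solvable.exists_prime_pow_eq_one_of_minimal_normal hB hmin
  have := Fact.mk hp
  have hpB : IsPGroup p B := fun x => ⟨1, Subtype.ext (by rw [pow_one]; exact hexp x x.2)⟩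
  -- `A` fixes only the trivial character of `B`
  have hcomm : ⁅B, A⁆ = B := by
    rcases hmin ⁅B, A⁆ inferInstance (Subgroup.commutator_le_left B A) with h | h
    · refine absurd (fun b hb a ha => ?_) hnc
      have h1 := Subgroup.commutator_mem_commutator hb ha
      rw [h, Subgroup.mem_bot, commutatorElement_eq_one_iff_mul_comm] at h1
      exact h1.symm
    · exact h
  have hfree : ∀ β : B →* ℂˣ, (∀ a : A, a • β = β) → β = 1 := fun β hβ => by
    have hle : ⁅B, A⁆ ≤ (MonoidHom.ker β).map B.subtype := by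
      rw [Subgroup.commutator_le]
      intro b hb a ha
      have hmem : ⁅b, a⁆ ∈ B := Subgroup.commutator_le_left B A (Subgroup.commutator_mem_commutator hb ha)
      refine ⟨⟨_, hmem⟩, ?_, rfl⟩
      rw [SetLike.mem_coe, MonoidHom.mem_ker,
        show (⟨⁅b, a⁆, hmem⟩ : B) = ⟨b, hb⟩ * conjN a (⟨b, hb⟩ : B)⁻¹ from
          Subtype.ext (by simp [commutatorElement_def, mul_assoc]), map_mul]
      have h2 := mem_inertia_linFn.mp ((dualAut_eq_iff B a β).mp (hβ ⟨a, ha⟩)) (⟨b, hb⟩ : B)⁻¹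
      rw [h2, map_inv, mul_inv_cancel]
    refine MonoidHom.ext fun b => ?_
    obtain ⟨b', hb', e⟩ := (hcomm.ge.trans hle) b.2
    rw [show b' = b from Subtype.ext e] at hb'
    exact MonoidHom.mem_ker.mp hb'
  have : Nontrivial (B →* ℂˣ) := by
    obtain ⟨b, hb1⟩ := Subgroup.ne_bot_iff_exists_ne_one.mp hB
    obtain ⟨l, hl⟩ := Char.exists_linear_ne_one hcB' hb1
    exact ⟨⟨l, 1, fun e => hl (by rw [e, MonoidHom.one_apply])⟩⟩
  -- stabilisers
  have hcomle : ∀ β : B →* ℂˣ, commutator A ≤ MulAction.stabilizer A β := fun β a ha =>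
    MulAction.mem_stabilizer_iff.mpr
      (dualAut_of_mem_self B ((hmemB a).mp ha) β)
  have hnorm : ∀ β : B →* ℂˣ, (MulAction.stabilizer A β).Normal := fun β => ⟨fun x hx g => by
    rw [show g * x * g⁻¹ = ⁅g, x⁆ * x by simp [commutatorElement_def, mul_assoc]]
    exact mul_mem (hcomle β (Subgroup.commutator_mem_commutator (Subgroup.mem_top g) (Subgroup.mem_top x))) hx⟩
  have hn : ∀ (a : A) (β : B →* ℂˣ),
      MulAction.stabilizer A (a • β) = MulAction.stabilizer A β := fun a β => by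
    ext c
    rw [dual_smul_eq, mem_stab_dualAut]
    have e : conjN (a : G)⁻¹ c = a⁻¹ * c * a⁻¹⁻¹ := Subtype.ext (by simp [mul_assoc])
    rw [e]
    refine ⟨fun h => ?_, fun h => (hnorm β).conj_mem _ h _⟩
    have h2 := (hnorm β).conj_mem _ h a
    simpa [mul_assoc] using h2
  -- the primes
  obtain ⟨l, hl, hW⟩ := Se.exists_isPGroup
  have := Fact.mk hl
  obtain ⟨n, hnl⟩ := IsPGroup.iff_card.mp hW
  have hidx : (commutator A).index = l ^ n := by rw [← Char.natCard_linear]; exact hnl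
  have hpl : p ≠ l := by
    rintro rfl
    obtain ⟨j, hj⟩ := IsPGroup.iff_card.mp hpB
    have hcA : Nat.card (commutator A) = p ^ j := by
      rw [← hj]
      exact Nat.card_congr
        (((commutator A).equivMapOfInjective A.subtype A.subtype_injective).trans
          (MulEquiv.subgroupCongr A.map_subtype_commutator)).toEquiv
    have hAp : IsPGroup p A := IsPGroup.of_card (n := j + n) (by
      rw [← (commutator A).card_mul_index, hcA, hidx, pow_add])
    have : Group.IsNilpotent A := hAp.isNilpotent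
    have hne := Solvable.normal_inf_center_ne_bot (B.subgroupOf A) (fun e => hB (by
      rw [Subgroup.subgroupOf_eq_bot] at e
      exact (disjoint_self.mp (e.mono_right hBA))))
    rcases hmin (B ⊓ Subgroup.centralizer (A : Set G)) inferInstance inf_le_left with h | h
    · refine hne (eq_bot_iff.mpr fun x hx => Subgroup.mem_bot.mpr (Subtype.ext ?_))
      refine Subgroup.mem_bot.mp (h.le ⟨(Subgroup.mem_inf.mp hx).1, ?_⟩)
      exact Subgroup.mem_centralizer_iff.mpr fun a ha => congrArg Subtype.val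
        (Subgroup.mem_center_iff.mp (Subgroup.mem_inf.mp hx).2 ⟨a, ha⟩)
    · exact hnc fun b hb a ha => Subgroup.mem_centralizer_iff.mp (h.ge hb).2 a ha
  -- the lines
  have hline : ∀ (β : B →* ℂˣ), IsMax A β → ∀ w w' : A →* ℂˣ,
      (∀ a ∈ MulAction.stabilizer A β, w a = 1) → (∀ a ∈ MulAction.stabilizer A β, w' a = 1) →
      w ^ l = 1 → w' ^ l = 1 → w' ≠ 1 → w ∈ Subgroup.zpowers w' := by
    intro β hβ w w' h h' hl1 hl2 hne
    have := hnorm β
    obtain ⟨i, -, hi⟩ := (Nat.dvd_prime_pow hl).mp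
      (hidx ▸ Subgroup.index_dvd_of_le (hcomle β) : (MulAction.stabilizer A β).index ∣ l ^ n)
    obtain ⟨j, hj⟩ := IsPGroup.iff_card.mp (Palfy.isPGroup_linear hpB)
    have := isCyclic_of_isMax hn hβ (hcomle β) (by
      rw [hi, hj]; exact Nat.Coprime.pow _ _ ((Nat.coprime_primes hl hp).mpr hpl.symm))
    exact mem_zpowers_of_cyclic _ hl h h' hl1 hl2 hne
  -- a maximal stabiliser with a fixed vector
  obtain ⟨β₀, hβ₀⟩ := exists_isMax A (W := B →* ℂˣ)
  have := hnorm β₀
  have hX : MulAction.stabilizer A β₀ ≠ ⊤ := fun e =>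
    hβ₀.1 (hfree β₀ fun a => MulAction.mem_stabilizer_iff.mp (e.ge (Subgroup.mem_top a)))
  obtain ⟨x, hx⟩ : ∃ x, x ∉ MulAction.stabilizer A β₀ := by
    by_contra! hall; exact hX ((Subgroup.eq_top_iff' _).mpr hall)
  obtain ⟨mu, hmu⟩ := Char.exists_linear_ne_one (G := A ⧸ MulAction.stabilizer A β₀)
    (fun a b => by
      obtain ⟨a, rfl⟩ := QuotientGroup.mk_surjective a
      obtain ⟨b, rfl⟩ := QuotientGroup.mk_surjective b
      rw [← commutatorElement_eq_one_iff_mul_comm]
      exact (map_commutatorElement (QuotientGroup.mk' _) a b).symm.trans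
        ((QuotientGroup.eq_one_iff _).mpr (hcomle β₀
          (Subgroup.commutator_mem_commutator (Subgroup.mem_top a) (Subgroup.mem_top b)))))
    (g := (x : A ⧸ MulAction.stabilizer A β₀)) (fun e => hx ((QuotientGroup.eq_one_iff x).mp e))
  set u0 : A →* ℂˣ := mu.comp (QuotientGroup.mk' _)
  have hu0 : ∀ a ∈ MulAction.stabilizer A β₀, u0 a = 1 := fun a ha => by
    show mu (QuotientGroup.mk a) = 1
    rw [(QuotientGroup.eq_one_iff a).mpr ha, map_one]
  have hu01 : u0 ≠ 1 := fun e => hmu (DFunLike.congr_fun e x)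
  obtain ⟨c, hv₀1, hv₀l⟩ := exists_order_prime hW hu01
  set v₀ : A →* ℂˣ := u0 ^ c
  have hv₀ : ∀ a ∈ MulAction.stabilizer A β₀, v₀ a = 1 := fun a ha =>
    (MonoidHom.pow_apply u0 c a).trans (by rw [hu0 a ha, one_pow])
  obtain ⟨k, hk⟩ := Se.exists_fix hv₀1
  set v : A →* ℂˣ := k • v₀
  have hv1 : v ≠ 1 := smul_ne_one k hv₀1
  have hvl : v ^ l = 1 := smul_pow_eq_one k hv₀l
  set β₁ : B →* ℂˣ := dualAut B (k : G) β₀
  have hβ₁ : IsMax A β₁ := isMax_dualAut A B _ hβ₀
  have hv : ∀ a ∈ MulAction.stabilizer A β₁, v a = 1 := dualAut_apply_stab A B (k : G) hv₀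
  -- comparing two translates
  have key : ∀ (g g' : G) (e e' : H0), dualAut A g v = e • v → dualAut A g' v = e' • v →
      MulAction.stabilizer A (dualAut B g β₁) = MulAction.stabilizer A (dualAut B g' β₁) →
      e • v ∈ Subgroup.zpowers (e' • v) ∧ e'⁻¹ * e ∈ Se.fixed := by
    intro g g' e e' hg hg' hst
    have h1 := hline _ (isMax_dualAut A B g' hβ₁) (e • v) (e' • v)
      (fun a ha => hg ▸ dualAut_apply_stab A B g hv a (hst ▸ ha))
      (fun a ha => hg' ▸ dualAut_apply_stab A B g' hv a ha)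
      (smul_pow_eq_one e hvl) (smul_pow_eq_one e' hvl) (smul_ne_one e' hv1)
    refine ⟨h1, ?_⟩
    obtain ⟨i, hi⟩ := Subgroup.mem_zpowers_iff.mp h1
    refine Se.mem_fixed_of_fix hv1 hk ?_
    rw [mul_smul, ← hi, smul_zpow', inv_smul_smul, map_zpow, hk]
  have hone : dualAut A 1 v = (1 : H0) • v := by rw [dualAut_one, one_smul]
  have hact : ∀ (a : G), a ∈ A → ∀ (h : H0) (w : A →* ℂˣ),
      dualAut A (a * h * y) w = h • dualAut A y w := fun a ha h w => by
    rw [dualAut_mul, dualAut_mul, dualAut_of_mem_self A ha]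
    rfl
  have hθ : ∀ β : B →* ℂˣ, β ≠ 1 → ∃ θ : A → ℂ, Cfsg.IsIrrCharacter A θ ∧ θ 1 ≠ 1 ∧
      ∀ g ∈ inertia θ, ∃ a ∈ A, dualAut B (a * g) β = β := by
    intro β hβ
    have hi := Char.isIrrCharacter_linear β
    obtain ⟨θ, hθ, hne⟩ := exists_irr_over hBA hi
    refine ⟨θ, hθ, ne_one_of_over hBA le_rfl hθ hi (linFn_ne_one hβ) hne, fun g hg => ?_⟩
    obtain ⟨a, ha, hag⟩ := exists_mul_fix hBA hθ hi hne hg
    exact ⟨a, ha, (dualAut_eq_iff B _ β).mpr hag⟩
  rcases S.prime.eq_two_or_odd' with rfl | hodd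
  · -- `f = 2`
    have hl2 : l = 2 := Semi.eq_two Se hl hW
    subst hl2
    obtain ⟨θ, hθi, hθ1, hθg⟩ := hθ β₁ hβ₁.1
    obtain ⟨h, hhR, hh⟩ := S.exists_outside hψ₀ hψ₀1 hd hθi hθ1
    obtain ⟨a, ha, hfix⟩ := hθg _ hh
    have hg : dualAut A (a * (h : G)) v = h • v := by
      rw [dualAut_mul, dualAut_of_mem_self A ha]; rfl
    obtain ⟨hz, -⟩ := key _ 1 h 1 hg hone (by rw [hfix, dualAut_one])
    rw [one_smul] at hz
    refine hhR (Se.mem_of_smul_eq hv1 ?_)
    exact zpow_of_sq_eq_one hvl (smul_ne_one h hv1) hz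
  · -- `f` odd
    obtain ⟨d, hd'⟩ := Se.nontriv
    have hdf : d ∉ Se.fixed := hd'
    set β₂ : B →* ℂˣ := dualAut B (d : G) β₁ with hβ₂def
    have hd1 : dualAut A (d : G) v = d • v := rfl
    have hst12 : MulAction.stabilizer A β₂ ≠ MulAction.stabilizer A β₁ := fun e =>
      hdf (by simpa using (key (d : G) 1 d 1 hd1 hone (by rw [dualAut_one]; exact e)).2)
    have hβ12 : β₁ * β₂ ≠ 1 := fun e => hst12 (stab_eq_of_mul_eq_one e)
    obtain ⟨θ, hθi, hθ1, hθg⟩ := hθ _ hβ12
    obtain ⟨a', ha', h, hh, hz⟩ := S.exists_fix_coset hθi hθ1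
    obtain ⟨a, ha, hfix⟩ := hθg _ hz
    rw [show a * (a' * h * y) = a * a' * h * y by simp only [mul_assoc]] at hfix
    set g := a * a' * h * y
    rw [map_mul] at hfix
    have hg : dualAut A g v = (⟨h, hh⟩ : H0) • v := by
      rw [hact _ (mul_mem ha ha') ⟨h, hh⟩, hk]
    have hgd : dualAut A (g * d) v = ((⟨h, hh⟩ : H0) * conjAut S.nrm d) • v := by
      rw [dualAut_mul, hd1, hact _ (mul_mem ha ha') ⟨h, hh⟩, Se.semi, hk, mul_smul]
    have m1 := isMax_dualAut A B g hβ₁
    have m2 : IsMax A β₂ := isMax_dualAut A B _ hβ₁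
    have m3 := isMax_dualAut A B g m2
    have hne : MulAction.stabilizer A (dualAut B g β₁) ≠ MulAction.stabilizer A (dualAut B g β₂) :=
      fun e => hst12 (by
        ext c
        have h1 := ((mem_stab_dualAut A B g β₁ (conjN g c)).symm.trans (SetLike.ext_iff.mp e _)).trans
          (mem_stab_dualAut A B g β₂ (conjN g c))
        rw [show conjN g⁻¹ (conjN g c) = c from Subtype.ext (by simp [mul_assoc])] at h1
        exact h1.symm)
    have hgd' : dualAut B g β₂ = dualAut B (g * d) β₁ := (dualAut_mul B g d β₁).symm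
    have hpair := isMax_pair hn hβ₁ m2 m1 m3 hne hfix.symm
    have hpair2 := isMax_pair hn hβ₁ m2 m3 m1 hne.symm (hfix.symm.trans (MonoidHom.ext fun b => mul_comm _ _))
    rcases hpair with e1 | e1
    · have e2 := hpair2.resolve_left fun e => hne (e1.trans e.symm)
      have f1 := (key g 1 _ 1 hg hone (by rw [dualAut_one]; exact e1)).2
      rw [inv_one, one_mul] at f1
      have f2 := (key (g * d) d _ d hgd hd1 (by rw [← hgd']; exact e2)).2
      refine hdf (Se.twist_twist (k := d) ?_)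
      show Se.twist d ∈ Se.fixed
      have := mul_mem (inv_mem f1) f2
      convert this using 1
      rw [Semi.twist_apply]
      rw [Se.hc d⁻¹, Se.hc (⟨h, hh⟩ : H0) (conjAut S.nrm d)]
      simp [Se.hc, mul_assoc]
      rw [← mul_assoc _ d⁻¹, Se.hc _ d⁻¹, mul_assoc, inv_mul_cancel_left]
    · have e2 := hpair2.resolve_right fun e => hne (e1.trans e.symm)
      have f1 := (key g d _ d hg hd1 e1).2
      have f2 := (key (g * d) 1 _ 1 hgd hone (by rw [dualAut_one, ← hgd']; exact e2)).2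
      rw [inv_one, one_mul] at f2
      have f3 : conjAut S.nrm d * d ∈ Se.fixed := by
        have := mul_mem (inv_mem f1) f2
        convert this using 1
        rw [mul_inv_rev, inv_inv, Se.hc _ d]
        group
        rw [zpow_neg_one, Se.hc _ d, inv_mul_cancel_right]
      have f4 : conjAut S.nrm (Se.twist d) * Se.twist d ∈ R := by
        have h4 : Se.twist (conjAut S.nrm d * d) ∈ R := f3
        rwa [map_mul, show Se.twist (conjAut S.nrm d) = conjAut S.nrm (Se.twist d) by
          rw [Semi.twist_apply, Semi.twist_apply, map_mul, map_inv]] at h4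
      set t := Se.twist d with htdef
      set σ := conjAut S.nrm
      have h22 : σ (σ t) * t⁻¹ ∈ R := by
        have := mul_mem (Se.map_mem f4) (inv_mem f4)
        rw [map_mul, mul_inv_rev] at this
        convert this using 1
        rw [Se.hc t⁻¹ (σ t)⁻¹]
        group
      have hev : ∀ i : ℕ, σ^[2 * i] t * t⁻¹ ∈ R := by
        intro i
        induction i with
        | zero => simp
        | succ i ih =>
          have := mul_mem (Se.map_mem (Se.map_mem ih)) h22
          rw [map_mul, map_mul, map_inv, map_inv] at this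
          rw [Nat.mul_succ, Function.iterate_succ_apply', Function.iterate_succ_apply']
          convert this using 1
          group
      obtain ⟨j, hj⟩ := hodd
      have h1 := Se.sigma_period t
      rw [hj, Nat.add_comm, Function.iterate_add_apply, Function.iterate_one] at h1
      have h2 := Se.map_mem (hev j)
      rw [map_mul, map_inv] at h2
      have h3 : Se.twist t ∈ R := by
        have := mul_mem (inv_mem h2) h1
        convert this using 1
        rw [Semi.twist_apply]
        group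
      exact hdf (Se.twist_twist h3)

end Split

end CfsgLib.BlockB.TwoComp
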