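import Cfsg.Agent.Lib.Clifford.Degrees
import Cfsg.Agent.Lib.BlockB.OverTheta
import Cfsg.Agent.Lib.BlockB.GaloisDegree
import Cfsg.Agent.Lib.BlockB.Palfy.NormalMain

/-!
# Characters over characters, for two nested normal subgroups
-/

set_option autoImplicit false

namespace CfsgLib.BlockB.TwoComp

open CfsgLib CfsgLib.Clifford
open scoped commutatorElement

universe u

variable {G : Type u} [Group G] [Finite G] {M N : Subgroup G}

/-- The multiplicity of `θ` in the restriction of `χ`. -/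
noncomputable def resInner (hle : M ≤ N) (χ : N → ℂ) (θ : M → ℂ) : ℂ :=
  letI := Fintype.ofFinite M
  Cfsg.classInner (fun m : M => χ ⟨m, hle m.2⟩) θ

theorem resInner_eq (hle : M ≤ N) (χ : N → ℂ) (θ : M → ℂ) [Fintype (M.subgroupOf N)] :
    resInner hle χ θ = Cfsg.classInner (fun a : M.subgroupOf N => χ a)
      (θ ∘ Subgroup.subgroupOfEquivOfLe hle) := by
  letI := Fintype.ofFinite M
  exact (OverTheta.classInner_comp_surjective (Subgroup.subgroupOfEquivOfLe hle).toMonoidHom
    (Subgroup.subgroupOfEquivOfLe hle).surjective (fun m : M => χ ⟨m, hle m.2⟩) θ).symm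

theorem exists_irr_over [M.Normal] (hle : M ≤ N) {θ : M → ℂ} (hθ : Cfsg.IsIrrCharacter M θ) :
    ∃ χ : N → ℂ, Cfsg.IsIrrCharacter N χ ∧ resInner hle χ θ ≠ 0 := by
  have := Fintype.ofFinite N
  have := Fintype.ofFinite (M.subgroupOf N)
  obtain ⟨χ, hχ, hne⟩ := Degrees.exists_over (M.subgroupOf N)
    (Char.isIrrCharacter_comp_surjective hθ (Subgroup.subgroupOfEquivOfLe hle).toMonoidHom
      (Subgroup.subgroupOfEquivOfLe hle).surjective)
  exact ⟨χ, hχ, by rw [resInner_eq]; exact hne⟩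

theorem exists_irr_under (hle : M ≤ N) {χ : N → ℂ} (hχ : Cfsg.IsIrrCharacter N χ) :
    ∃ θ : M → ℂ, Cfsg.IsIrrCharacter M θ ∧ resInner hle χ θ ≠ 0 := by
  have := Fintype.ofFinite N
  have := Fintype.ofFinite (M.subgroupOf N)
  obtain ⟨θ, hθ, hne⟩ := exists_irr_constituent_restrict (N := M.subgroupOf N) hχ
  let e := Subgroup.subgroupOfEquivOfLe hle
  refine ⟨θ ∘ e.symm, Char.isIrrCharacter_comp_surjective hθ e.symm.toMonoidHom e.symm.surjective, ?_⟩
  rw [resInner_eq]
  convert hne using 2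
  funext a
  simp [e]

/-- An element fixing a character fixes a constituent, up to the bigger subgroup. -/
theorem exists_mul_fix [M.Normal] [N.Normal] (hle : M ≤ N) {χ : N → ℂ}
    (hχ : Cfsg.IsIrrCharacter N χ) {θ : M → ℂ} (hθ : Cfsg.IsIrrCharacter M θ)
    (hne : resInner hle χ θ ≠ 0) {g : G} (hg : g ∈ inertia χ) :
    ∃ x ∈ N, x * g ∈ inertia θ := by
  have := Fintype.ofFinite N
  have := Fintype.ofFinite (M.subgroupOf N)
  letI := Fintype.ofFinite M
  let θ' : M → ℂ := fun m => θ (conjN g m)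
  have hθ' : Cfsg.IsIrrCharacter M θ' :=
    Char.isIrrCharacter_comp_surjective hθ (MulAut.conjNormal (H := M) g).toMonoidHom
      (MulAut.conjNormal (H := M) g).surjective
  have hne' : resInner hle χ θ' ≠ 0 := by
    have e := OverTheta.classInner_comp_surjective (MulAut.conjNormal (H := M) g).toMonoidHom
      (MulAut.conjNormal (H := M) g).surjective (fun m : M => χ ⟨m, hle m.2⟩) θ
    have e1 : (fun m : M => χ ⟨m, hle m.2⟩) ∘ (MulAut.conjNormal (H := M) g).toMonoidHom =
        fun m : M => χ ⟨m, hle m.2⟩ := funext fun m => hg ⟨m, hle m.2⟩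
    rw [e1] at e
    intro h0
    exact hne (e.symm.trans h0)
  let ee := Subgroup.subgroupOfEquivOfLe hle
  rw [resInner_eq] at hne hne'
  obtain ⟨x, hx⟩ := exists_conj_of_constituents hχ
    (Char.isIrrCharacter_comp_surjective hθ ee.toMonoidHom ee.surjective)
    (Char.isIrrCharacter_comp_surjective hθ' ee.toMonoidHom ee.surjective) hne hne'
  refine ⟨g * (x : G)⁻¹ * g⁻¹, Subgroup.Normal.conj_mem inferInstance _ (inv_mem x.2) g, ?_⟩
  rw [inv_mul_cancel_right]
  intro m
  have h := congr_fun hx (ee.symm (conjN (x : G)⁻¹ m))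
  simp only [conjFn_apply, Function.comp_apply, MulEquiv.coe_toMonoidHom, θ',
    MulEquiv.apply_symm_apply] at h
  rw [conjN_mul, ← h]
  exact congrArg θ (Subtype.ext (by simp [ee, mul_assoc]))

theorem charDegree_comp_equiv {K : Type u} [Group K] {L : Type u} [Group L] (e : K ≃* L)
    (θ : L → ℂ) : Cfsg.charDegree (θ ∘ e) = Cfsg.charDegree θ := by
  simp [Cfsg.charDegree]

/-- Clifford's divisibility. -/
theorem relIndex_mul_dvd [M.Normal] (hle : M ≤ N) {χ : N → ℂ} (hχ : Cfsg.IsIrrCharacter N χ)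
    {θ : M → ℂ} (hθ : Cfsg.IsIrrCharacter M θ) (hne : resInner hle χ θ ≠ 0) :
    (inertia θ).relIndex N * Cfsg.charDegree θ ∣ Cfsg.charDegree χ := by
  have := Fintype.ofFinite N
  have := Fintype.ofFinite (M.subgroupOf N)
  rw [resInner_eq] at hne
  have h := Degrees.index_inertia_mul_dvd (M.subgroupOf N)
    (Char.isIrrCharacter_comp_surjective hθ (Subgroup.subgroupOfEquivOfLe hle).toMonoidHom
      (Subgroup.subgroupOfEquivOfLe hle).surjective) hχ hne
  have e : inertia (θ ∘ (Subgroup.subgroupOfEquivOfLe hle).toMonoidHom) = (inertia θ).subgroupOf N := by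
    ext x
    constructor
    · intro hx m
      exact hx ((Subgroup.subgroupOfEquivOfLe hle).symm m)
    · intro hx m
      exact hx (Subgroup.subgroupOfEquivOfLe hle m)
  rw [e] at h
  have h' := charDegree_comp_equiv (Subgroup.subgroupOfEquivOfLe hle) θ
  rwa [show Cfsg.charDegree (θ ∘ ⇑(Subgroup.subgroupOfEquivOfLe hle).toMonoidHom) =
    Cfsg.charDegree θ from h'] at h

/-- A linear character kills commutators. -/
theorem apply_commutator_of_one {χ : N → ℂ} (hχ : Cfsg.IsIrrCharacter N χ) (h1 : χ 1 = 1) {n : N}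
    (hn : n ∈ commutator N) : χ n = 1 := by
  obtain ⟨lam, rfl⟩ := Char.exists_hom_of_degree_one (Char.irr_isCharacter hχ) h1
  have := Abelianization.commutator_subset_ker lam hn
  simp [MonoidHom.mem_ker.mp this]

/-- The characters over a nontrivial linear character of the derived group are nonlinear. -/
theorem ne_one_of_over (hle : M ≤ N) (hM : M ≤ ⁅N, N⁆) {χ : N → ℂ}
    (hχ : Cfsg.IsIrrCharacter N χ) {θ : M → ℂ} (hθ : Cfsg.IsIrrCharacter M θ)
    (hθ1 : θ ≠ fun _ => 1) (hne : resInner hle χ θ ≠ 0) : χ 1 ≠ 1 := by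
  intro h1
  letI := Fintype.ofFinite M
  have e : (fun m : M => χ ⟨m, hle m.2⟩) = fun _ => 1 := funext fun m =>
    apply_commutator_of_one hχ h1 (Palfy.mem_commutator_subgroup.mpr (hM m.2))
  apply hne
  rw [resInner, e]
  exact Char.irr_classInner_ne Char.isIrrCharacter_one hθ fun h => hθ1 h.symm

/-- A linear character of `M` invariant in `N` gives the restriction. -/
theorem apply_of_invariant [M.Normal] (hle : M ≤ N) {χ : N → ℂ} (hχ : Cfsg.IsIrrCharacter N χ)
    {θ : M → ℂ} (hθ : Cfsg.IsIrrCharacter M θ) (h1 : θ 1 = 1) (hinv : N ≤ inertia θ)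
    (hne : resInner hle χ θ ≠ 0) (m : M) : χ ⟨m, hle m.2⟩ = χ 1 * θ m := by
  have := Fintype.ofFinite N
  have := Fintype.ofFinite (M.subgroupOf N)
  rw [resInner_eq] at hne
  have hr := restrict_eq_smul_of_invariant hχ
    (Char.isIrrCharacter_comp_surjective hθ (Subgroup.subgroupOfEquivOfLe hle).toMonoidHom
      (Subgroup.subgroupOfEquivOfLe hle).surjective)
    (fun x => funext fun a => hinv x.2 (Subgroup.subgroupOfEquivOfLe hle a)) hne
  have e1 := congr_fun hr 1
  have e2 := congr_fun hr ((Subgroup.subgroupOfEquivOfLe hle).symm m)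
  simp only [Pi.smul_apply, smul_eq_mul, Function.comp_apply, map_one, h1, mul_one,
    OneMemClass.coe_one, MulEquiv.coe_toMonoidHom, MulEquiv.apply_symm_apply] at e1 e2
  rw [e1, ← e2]
  rfl

/-- A character vanishing off a subgroup containing the commutators with `v` contains `v`. -/
theorem apply_ne_zero_of_central {X : Type u} [Group X] [Finite X] {φ : X → ℂ}
    (hφ : Cfsg.IsIrrCharacter X φ) {v : X} (hv : ∀ x, φ ⁅v, x⁆ = φ 1) : φ v ≠ 0 := by
  set K := GaloisDegree.ker ⟨φ, hφ⟩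
  obtain ⟨ψ, hψ, e⟩ := Char.isIrr_quotient_lift K hφ fun n hn => hn
  have hc : (v : X ⧸ K) ∈ Subgroup.center (X ⧸ K) := Subgroup.mem_center_iff.mpr fun q => by
    obtain ⟨x, rfl⟩ := QuotientGroup.mk_surjective q
    have h1 : ((⁅v, x⁆ : X) : X ⧸ K) = 1 := (QuotientGroup.eq_one_iff _).mpr (hv x)
    rw [show ((⁅v, x⁆ : X) : X ⧸ K) = ⁅(v : X ⧸ K), (x : X ⧸ K)⁆ from
      map_commutatorElement (QuotientGroup.mk' K) v x, commutatorElement_eq_one_iff_mul_comm] at h1
    exact h1.symm
  obtain ⟨lam, hlam⟩ := GaloisDegree.exists_central ⟨ψ, hψ⟩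
  have h := hlam ⟨_, hc⟩ 1
  rw [mul_one] at h
  rw [e, Function.comp_apply]
  intro h0
  exact mul_ne_zero (lam _).ne_zero (Char.irr_apply_one_ne_zero hψ) (h.symm.trans h0)

end CfsgLib.BlockB.TwoComp
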