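import Cfsg.Agent.Lib.BlockB.TwoComp.Split
import Cfsg.Agent.Lib.BlockB.TwoComp.Over
import Cfsg.Agent.Lib.Solvable.MinNormal

/-!
# Nonlinear characters of the derived group of a split subgroup
-/

set_option autoImplicit false

namespace CfsgLib.BlockB.TwoComp

open CfsgLib CfsgLib.Clifford
open CfsgLib.BlockB.Palfy (dualAction linFn mem_inertia_linFn)
open scoped commutatorElement

universe u

variable {G : Type u} [Group G]

theorem dualAut_mul (M : Subgroup G) [M.Normal] (g g' : G) (w : M →* ℂˣ) :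
    dualAut M (g * g') w = dualAut M g (dualAut M g' w) :=
  MonoidHom.ext fun a => congrArg w (Subtype.ext (by simp [mul_assoc]))

theorem dualAut_one (M : Subgroup G) [M.Normal] (w : M →* ℂˣ) : dualAut M 1 w = w :=
  MonoidHom.ext fun a => congrArg w (Subtype.ext (by simp))

theorem dualAut_of_mem_self (M : Subgroup G) [M.Normal] {g : G} (hg : g ∈ M) (w : M →* ℂˣ) :
    dualAut M g w = w := MonoidHom.ext fun a => by
  rw [dualAut_apply, show conjN g⁻¹ a = (⟨g, hg⟩ : M)⁻¹ * a * ⟨g, hg⟩ from Subtype.ext (by simp),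
    map_mul, map_mul, map_inv, inv_mul_cancel_comm]

theorem dualAut_eq_iff (M : Subgroup G) [M.Normal] (g : G) (w : M →* ℂˣ) :
    dualAut M g w = w ↔ g ∈ inertia (linFn w) := by
  rw [← inv_mem_iff (H := inertia (linFn w)), mem_inertia_linFn, MonoidHom.ext_iff]
  exact Iff.rfl

theorem linFn_ne_one {M : Subgroup G} {w : M →* ℂˣ} (hw : w ≠ 1) : linFn w ≠ fun _ => 1 :=
  fun e => hw (MonoidHom.ext fun a => Units.ext (congr_fun e a))

variable [Finite G] {N H0 : Subgroup G} [N.Normal] {y : G} {f : ℕ}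

namespace Split

variable (S : Split N H0 y f)

include S

/-- A nonlinear character of the derived group is fixed by an element outside `R`. -/
theorem exists_outside {R : Subgroup H0} {ψ₀ : N → ℂ} (hψ₀ : Cfsg.IsIrrCharacter N ψ₀)
    (hψ₀1 : ψ₀ 1 ≠ 1) (hd : Cfsg.charDegree ψ₀ = R.index)
    {θ : (⁅N, N⁆ : Subgroup G) → ℂ} (hθ : Cfsg.IsIrrCharacter (⁅N, N⁆ : Subgroup G) θ)
    (h1 : θ 1 ≠ 1) : ∃ h : H0, h ∉ R ∧ (h : G) ∈ inertia θ := by
  have hle : ⁅N, N⁆ ≤ N := Subgroup.commutator_le_right N N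
  obtain ⟨χ, hχ, hne⟩ := exists_irr_over hle hθ
  have hdvd := relIndex_mul_dvd hle hχ hθ hne
  have hθd : Cfsg.charDegree θ ≠ 1 := fun e => h1 ((Palfy.charDegree_eq_one_iff hθ).mpr e)
  have hχ1 : χ 1 ≠ 1 := fun e => hθd (Nat.dvd_one.mp ((dvd_mul_left _ _).trans
    ((Palfy.charDegree_eq_one_iff hχ).mp e ▸ hdvd)))
  set I := inertia θ
  have hAI : ⁅N, N⁆ ≤ I := le_inertia (Char.irr_isClassFunction hθ)
  obtain ⟨π, hk, hr⟩ := S.exists_proj'
  have hmap : (I.subgroupOf N).map π = I.subgroupOf H0 := by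
    ext a
    constructor
    · rintro ⟨x, hx, rfl⟩
      have h2 : x * (⟨(π x : G), S.le (π x).2⟩ : N)⁻¹ ∈ commutator N := hk.le (by
        rw [MonoidHom.mem_ker, map_mul, map_inv, hr, mul_inv_cancel])
      have h3 := mul_mem (inv_mem (hAI (Palfy.mem_commutator_subgroup.mp h2))) hx
      simpa [Subgroup.mem_subgroupOf] using h3
    · exact fun ha => ⟨⟨a, S.le a.2⟩, ha, hr a⟩
  have hidx : I.relIndex N = (I.subgroupOf H0).index := by
    rw [← hmap, Subgroup.index_map_eq _ (fun x => ⟨_, hr x⟩)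
      (hk.le.trans fun x hx => hAI (Palfy.mem_commutator_subgroup.mp hx))]
    rfl
  by_contra! hcon
  have hE : I.subgroupOf H0 ≤ R := fun h hh => by_contra fun hn => hcon h hn hh
  rw [hidx] at hdvd
  have h2 := Subgroup.index_dvd_of_le hE
  have e := S.nd ψ₀ χ hψ₀ hψ₀1 hχ hχ1 (hd ▸ h2.trans ((dvd_mul_right _ _).trans hdvd))
  rw [← e, hd] at hdvd
  have h3 := Nat.le_of_dvd (Nat.pos_of_ne_zero Subgroup.index_ne_zero_of_finite) hdvd
  have h4 : R.index ≤ (I.subgroupOf H0).index :=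
    Nat.le_of_dvd (Nat.pos_of_ne_zero Subgroup.index_ne_zero_of_finite) h2
  have h5 := Nat.pos_of_dvd_of_pos hdvd (Nat.pos_of_ne_zero Subgroup.index_ne_zero_of_finite)
  obtain ⟨h6, h7⟩ := CanonicallyOrderedAdd.mul_pos.mp h5
  have h8 : 2 ≤ Cfsg.charDegree θ := by omega
  have := Nat.mul_le_mul_left (I.subgroupOf H0).index h8
  omega

/-- A nonlinear character of the derived group is fixed by an element of the coset of `y`. -/
theorem exists_fix_coset {θ : (⁅N, N⁆ : Subgroup G) → ℂ}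
    (hθ : Cfsg.IsIrrCharacter (⁅N, N⁆ : Subgroup G) θ) (h1 : θ 1 ≠ 1) :
    ∃ a ∈ ⁅N, N⁆, ∃ h ∈ H0, a * h * y ∈ inertia θ := by
  have hle : ⁅N, N⁆ ≤ N := Subgroup.commutator_le_right N N
  obtain ⟨χ, hχ, hne⟩ := exists_irr_over hle hθ
  have hdvd := relIndex_mul_dvd hle hχ hθ hne
  have hχ1 : χ 1 ≠ 1 := fun e => h1 ((Palfy.charDegree_eq_one_iff hθ).mpr
    (Nat.dvd_one.mp ((dvd_mul_left _ _).trans ((Palfy.charDegree_eq_one_iff hχ).mp e ▸ hdvd))))
  obtain ⟨x, hx, hxy⟩ := exists_mul_fix hle hχ hθ hne (S.inv χ hχ hχ1)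
  obtain ⟨a, ha, h, hh, rfl⟩ := Subgroup.mem_sup_of_normal_left.mp
    (S.sup.symm ▸ hx : x ∈ ⁅N, N⁆ ⊔ H0)
  exact ⟨a, ha, h, hh, hxy⟩

end Split

end CfsgLib.BlockB.TwoComp
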