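import Cfsg.Agent.Lib.BlockB.TwoComp.SplitQuot
import Cfsg.Agent.Lib.BlockB.TwoComp.Counting
import Cfsg.Agent.Lib.BlockA.ResidualDegree
import Cfsg.Agent.Lib.Coprime.Action

/-!
# Invariant nonlinear characters with one common prime: a single degree
-/

set_option autoImplicit false

namespace CfsgLib.BlockB.TwoComp

open CfsgLib CfsgLib.Clifford
open scoped commutatorElement

universe u

variable {G : Type u} [Group G]

/-- The nonlinear degrees of `N` are multiples of `q`, prime to `f`, pairwise not properly dividing,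
their characters fixed by the `f`-element `y`, which moves an element of the Sylow subgroup `Q`. -/
structure Sit (N Q : Subgroup G) [N.Normal] (y : G) (q f : ℕ) : Prop where
  hq : q.Prime
  hf : f.Prime
  ne : q ≠ f
  le : Q ≤ N
  pgroup : IsPGroup q Q
  sylow : ¬ q ∣ Q.relIndex N
  nrm : y ∈ Subgroup.normalizer (Q : Set G)
  ford : ∃ k, y ^ f ^ k = 1
  fmem : y ^ f ∈ N
  moves : ∃ g ∈ Q, y * g ≠ g * y
  inv : ∀ ψ : N → ℂ, Cfsg.IsIrrCharacter N ψ → ψ 1 ≠ 1 → y ∈ inertia ψ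
  ndvd : ∀ ψ : N → ℂ, Cfsg.IsIrrCharacter N ψ → ψ 1 ≠ 1 → ¬ f ∣ Cfsg.charDegree ψ
  qdvd : ∀ ψ : N → ℂ, Cfsg.IsIrrCharacter N ψ → ψ 1 ≠ 1 → q ∣ Cfsg.charDegree ψ
  nd : ∀ ψ ψ' : N → ℂ, Cfsg.IsIrrCharacter N ψ → ψ 1 ≠ 1 → Cfsg.IsIrrCharacter N ψ' → ψ' 1 ≠ 1 →
    Cfsg.charDegree ψ ∣ Cfsg.charDegree ψ' → Cfsg.charDegree ψ = Cfsg.charDegree ψ'

variable [Finite G] {N Q : Subgroup G} [N.Normal] {y : G} {q f : ℕ}

namespace Sit

variable (T : Sit N Q y q f)

include T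

/-- The normal complement of the Sylow subgroup. -/
theorem exists_compl : ∃ M : Subgroup G, M.Normal ∧ M ≤ N ∧ (Nat.card M).Coprime q ∧
    (Q.subgroupOf N).IsComplement' (M.subgroupOf N) := by
  have := Fact.mk T.hq
  set P := Cfsg.pResidual q N
  have hc : (Nat.card P).Coprime q := BlockA.coprime_card_pResidual fun χ hχ =>
    T.qdvd _ χ.2 fun h => hχ ((Palfy.charDegree_eq_one_iff χ.2).mp h)
  obtain ⟨k, hk⟩ := Transfer.pResidual_index_eq_pow (G := N) (p := q)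
  have : P.Characteristic := Transfer.pResidual_characteristic
  refine ⟨P.map N.subtype, inferInstance, Subgroup.map_subtype_le _, ?_, ?_⟩
  · rwa [Nat.card_congr (P.equivMapOfInjective N.subtype N.subtype_injective).symm.toEquiv]
  · rw [show (P.map N.subtype).subgroupOf N = P from
      Subgroup.comap_map_eq_self_of_injective N.subtype_injective P]
    obtain ⟨a, ha⟩ := IsPGroup.iff_card.mp T.pgroup
    have hQ : Nat.card (Q.subgroupOf N) = q ^ a := by
      rw [Nat.card_congr (Subgroup.subgroupOfEquivOfLe T.le).toEquiv, ha]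
    have h1 := (Q.subgroupOf N).card_mul_index
    have h2 := P.card_mul_index
    rw [hQ] at h1
    rw [hk] at h2
    have hak : q ^ a = q ^ k := by
      refine Nat.dvd_antisymm ?_ ?_
      · refine ((hc.symm.pow_left a).dvd_of_dvd_mul_left ?_)
        rw [h2]; exact ⟨_, h1.symm⟩
      · refine (((T.hq.coprime_iff_not_dvd.mpr T.sylow)).pow_left k).dvd_of_dvd_mul_right ?_
        exact ⟨Nat.card P, by rw [show Q.relIndex N = (Q.subgroupOf N).index from rfl, h1, ← h2, mul_comm]⟩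
    refine Subgroup.isComplement'_of_coprime ?_ ?_
    · rw [hQ, hak, mul_comm, h2]
    · rw [hQ]; exact hc.symm.pow_left a

/-- An abelian normal complement gives a single degree. -/
theorem degree_eq_of_comm {M : Subgroup G} [M.Normal]
    (hM : (Q.subgroupOf N).IsComplement' (M.subgroupOf N)) (hle : M ≤ N)
    (hc : ∀ a ∈ M, ∀ b ∈ M, a * b = b * a) {ψ ψ' : N → ℂ}
    (hψ : Cfsg.IsIrrCharacter N ψ) (h1 : ψ 1 ≠ 1) (hψ' : Cfsg.IsIrrCharacter N ψ') (h1' : ψ' 1 ≠ 1) :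
    Cfsg.charDegree ψ = Cfsg.charDegree ψ' := by
  have := Fintype.ofFinite N
  have := Fact.mk T.hq
  obtain ⟨a, ha⟩ := IsPGroup.iff_card.mp T.pgroup
  have hidx : (M.subgroupOf N).index = q ^ a := by
    rw [hM.index_eq_card, Nat.card_congr (Subgroup.subgroupOfEquivOfLe T.le).toEquiv, ha]
  have key : ∀ χ : N → ℂ, Cfsg.IsIrrCharacter N χ → ∃ i, Cfsg.charDegree χ = q ^ i := by
    intro χ hχ
    obtain ⟨m, ρ, hρ, e⟩ := id hχ
    have h := Char.ito_degree_dvd_index ρ (M.subgroupOf N) fun x hx z hz =>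
      Subtype.ext (hc x hx z hz)
    have e' : Cfsg.charDegree χ = Module.finrank ℂ (Fin m → ℂ) := by
      have : (Cfsg.charDegree χ : ℂ) = (Module.finrank ℂ (Fin m → ℂ) : ℂ) := by
        rw [BlockB.charDegree_cast (Char.irr_isCharacter hχ), ← e, Representation.char_one]
      exact_mod_cast this
    obtain ⟨i, -, hi⟩ := (Nat.dvd_prime_pow T.hq).mp (hidx ▸ e' ▸ h)
    exact ⟨i, hi⟩
  obtain ⟨i, hi⟩ := key ψ hψ
  obtain ⟨j, hj⟩ := key ψ' hψ'
  rcases le_total i j with h | h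
  · exact T.nd ψ ψ' hψ h1 hψ' h1' (by rw [hi, hj]; exact pow_dvd_pow q h)
  · exact (T.nd ψ' ψ hψ' h1' hψ h1 (by rw [hi, hj]; exact pow_dvd_pow q h)).symm

/-- A nonabelian Sylow subgroup forces an abelian complement. -/
theorem comm_of_noncomm [Group.IsSolvable G] {M : Subgroup G} [M.Normal] (hle : M ≤ N)
    (hMq : (Nat.card M).Coprime q) (hM : (Q.subgroupOf N).IsComplement' (M.subgroupOf N))
    (hQ : ¬ ∀ a ∈ Q, ∀ b ∈ Q, a * b = b * a) : ∀ a ∈ M, ∀ b ∈ M, a * b = b * a := by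
  classical
  by_contra hMc
  have := Fact.mk T.hq
  set R := M.subgroupOf N with hRdef
  set H := Q.subgroupOf N with hHdef
  obtain ⟨a, ha⟩ := IsPGroup.iff_card.mp T.pgroup
  have hH : Nat.card H = q ^ a := by
    rw [Nat.card_congr (Subgroup.subgroupOfEquivOfLe T.le).toEquiv, ha]
  have hR : (Nat.card R).Coprime q := by
    rwa [Nat.card_congr (Subgroup.subgroupOfEquivOfLe hle).toEquiv]
  have hcop : (Nat.card R).Coprime R.index := by
    rw [hM.index_eq_card, hH]; exact hR.pow_right a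
  obtain ⟨π, hk, hr⟩ := Palfy.exists_proj hM
  have hπ := Palfy.proj_surjective π hr
  obtain ⟨η₀, hη₀⟩ : ∃ η : Cfsg.IrrCharacter H, (η : H → ℂ) 1 ≠ 1 := by
    by_contra! hall
    refine hQ fun a ha b hb => ?_
    have h := Char.comm_iff_forall_degree_one.mpr hall
      (⟨⟨a, T.le ha⟩, ha⟩ : H) ⟨⟨b, T.le hb⟩, hb⟩
    exact congrArg (fun x : H => ((x : N) : G)) h
  obtain ⟨θ₀, hθ₀⟩ : ∃ θ : Cfsg.IrrCharacter R, (θ : R → ℂ) 1 ≠ 1 := by
    by_contra! hall
    refine hMc fun a ha b hb => ?_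
    have h := Char.comm_iff_forall_degree_one.mpr hall
      (⟨⟨a, hle ha⟩, ha⟩ : R) ⟨⟨b, hle hb⟩, hb⟩
    exact congrArg (fun x : R => ((x : N) : G)) h
  obtain ⟨Θ, hΘ, hext⟩ := Palfy.exists_ext_inertia hcop θ₀.2
  set C := (inertia (θ₀ : R → ℂ)).map π with hC
  obtain ⟨η, hη, hbound⟩ := charDegree_le_index_mul C η₀.2
  obtain ⟨χ, hχ, hd⟩ := Palfy.exists_deg_of_complement θ₀.2 hΘ hext
    (π.subgroupMap (inertia (θ₀ : R → ℂ))) (π.subgroupMap_surjective _)
    (fun t ht => Subtype.ext (MonoidHom.mem_ker.mp (hk.symm.le ht))) hη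
  have hidx : C.index = (inertia (θ₀ : R → ℂ)).index :=
    Subgroup.index_map_eq _ hπ (hk.le.trans (le_inertia (Char.irr_isClassFunction θ₀.2)))
  rw [← hidx] at hd
  have hψ₀ := Char.isIrrCharacter_comp_surjective η₀.2 π hπ
  have hψ₀1 : ((η₀ : H → ℂ) ∘ π) 1 ≠ 1 := by rwa [Function.comp_apply, map_one]
  have hψd : Cfsg.charDegree ((η₀ : H → ℂ) ∘ π) = Cfsg.charDegree (η₀ : H → ℂ) :=
    Palfy.charDegree_comp_surjective π hπ η₀.2
  obtain ⟨e, -, he⟩ := (Nat.dvd_prime_pow T.hq).mp (hH ▸ Degrees.charDegree_dvd_card η₀.2)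
  obtain ⟨j, -, hj⟩ := (Nat.dvd_prime_pow T.hq).mp (hH ▸ Subgroup.index_dvd_card C)
  obtain ⟨i, -, hi⟩ := (Nat.dvd_prime_pow T.hq).mp
    (hH ▸ (Degrees.charDegree_dvd_card hη).trans (Subgroup.card_subgroup_dvd_card C))
  rw [he, hj, hi, ← pow_add] at hbound
  have hle' := (Nat.pow_le_pow_iff_right T.hq.one_lt).mp hbound
  have hdvd : Cfsg.charDegree ((η₀ : H → ℂ) ∘ π) ∣ Cfsg.charDegree χ := by
    rw [hψd, he, hd, hj, hi, mul_right_comm, ← pow_add]
    exact (pow_dvd_pow q hle').mul_right _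
  have hθd : Cfsg.charDegree (θ₀ : R → ℂ) ≠ 1 := fun h =>
    hθ₀ ((Palfy.charDegree_eq_one_iff θ₀.2).mpr h)
  have hχ1 : χ 1 ≠ 1 := fun h => hθd (Nat.dvd_one.mp
    (((Palfy.charDegree_eq_one_iff hχ).mp h) ▸ hd ▸ ((dvd_mul_left _ _).mul_right _)))
  have heq := T.nd _ _ hψ₀ hψ₀1 hχ hχ1 hdvd
  rw [hψd, he, hd] at heq
  refine hθd (Nat.eq_one_of_dvd_coprimes ((hR.coprime_dvd_left
    (Degrees.charDegree_dvd_card θ₀.2)).pow_right e) dvd_rfl ?_)
  rw [heq]
  exact (dvd_mul_left _ _).mul_right _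

/-- The split subgroup. -/
theorem split [Group.IsSolvable G] {M : Subgroup G} [M.Normal] (hle : M ≤ N)
    (hMq : (Nat.card M).Coprime q) (hM : (Q.subgroupOf N).IsComplement' (M.subgroupOf N))
    (hQ : ∀ a ∈ Q, ∀ b ∈ Q, a * b = b * a) :
    ∃ H0 : Subgroup G, Split N H0 y f := by
  classical
  have := Fact.mk T.hq
  set C : Subgroup G := M ⊓ Subgroup.centralizer (Q : Set G) with hC
  set H0 : Subgroup G := Q ⊔ C with hH0
  have hN : ∀ x ∈ N, ∃ a ∈ Q, ∃ m ∈ M, x = a * m := fun x hx => by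
    obtain ⟨⟨⟨⟨a, _⟩, ha⟩, ⟨⟨m, _⟩, hm⟩⟩, e⟩ := hM.2 (⟨x, hx⟩ : N)
    exact ⟨a, ha, m, hm, (congrArg Subtype.val e).symm⟩
  have hNM : ⁅N, N⁆ ≤ M := by
    rw [Subgroup.commutator_le]
    intro u hu v hv
    obtain ⟨a, ha, m, hm, rfl⟩ := hN u hu
    obtain ⟨b, hb, m', hm', rfl⟩ := hN v hv
    have e : ∀ z ∈ M, QuotientGroup.mk' M z = 1 := fun z hz => (QuotientGroup.eq_one_iff z).mpr hz
    refine (QuotientGroup.eq_one_iff _).mp ?_
    show QuotientGroup.mk' M ⁅a * m, b * m'⁆ = 1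
    rw [map_commutatorElement, map_mul, map_mul, e m hm, e m' hm', mul_one, mul_one,
      commutatorElement_eq_one_iff_mul_comm, ← map_mul, ← map_mul, hQ a ha b hb]
  have hsol : Group.IsSolvable Q := inferInstance
  have hcop : (Nat.card Q).Coprime (Nat.card M) := by
    obtain ⟨a, ha⟩ := IsPGroup.iff_card.mp T.pgroup
    rw [ha]; exact hMq.symm.pow_left a
  have hnorm : ∀ X : Subgroup G, X.Normal → Q ≤ Subgroup.normalizer (X : Set G) := fun X hX => by
    rw [Subgroup.normalizer_eq_top_iff.mpr hX]; exact le_top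
  have hMsup : M ≤ ⁅N, N⁆ ⊔ C := fun x hx => by
    obtain ⟨n, hn, hxn⟩ := Coprime.exists_mem_centralizer_of_coset (hnorm M inferInstance)
      (hnorm _ inferInstance) hNM hcop (Or.inl hsol) hx fun a ha => by
        have h1 := Subgroup.commutator_mem_commutator (N.inv_mem (hle hx)) (T.le ha)
        rw [commutatorElement_def, inv_inv] at h1
        exact h1
    rw [show x = x * n * n⁻¹ by group]
    exact mul_mem (Subgroup.mem_sup_right ⟨mul_mem hx (hNM hn), hxn⟩)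
      (Subgroup.mem_sup_left (inv_mem hn))
  have hH0N : H0 ≤ N := sup_le T.le (inf_le_left.trans hle)
  have hsup : ⁅N, N⁆ ⊔ H0 = N := by
    refine le_antisymm (sup_le (Subgroup.commutator_le_right N N) hH0N) fun x hx => ?_
    obtain ⟨a, ha, m, hm, rfl⟩ := hN x hx
    refine mul_mem (Subgroup.mem_sup_right (Subgroup.mem_sup_left ha)) ?_
    exact (sup_le le_sup_left (le_sup_right.trans le_sup_right) : ⁅N, N⁆ ⊔ C ≤ ⁅N, N⁆ ⊔ H0) (hMsup hm)
  -- centralisers of moved elements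
  have hvan : ∀ n : N, y * (n : G) * y⁻¹ * (n : G)⁻¹ ∉ ⁅N, N⁆ →
      ∀ χ : N → ℂ, Cfsg.IsIrrCharacter N χ → χ 1 ≠ 1 → χ n = 0 := by
    intro n hn χ hχ h1
    obtain ⟨l, hl⟩ := Palfy.exists_linear_sep (g := conjN y n * n⁻¹)
      (fun h => hn (by simpa using Palfy.mem_commutator_subgroup.mp h))
    have e1 : χ (conjN y n) = χ n := T.inv χ hχ h1 n
    have hχl := Char.isIrrCharacter_mul_linear hχ l
    have e2 : (l (conjN y n) : ℂ) * χ (conjN y n) = (l n : ℂ) * χ n :=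
      T.inv _ hχl (by simpa using h1) n
    rw [e1] at e2
    by_contra hne
    refine hl ?_
    rw [map_mul, map_inv, Units.ext (mul_right_cancel₀ hne e2), mul_inv_cancel]
  set π : G →* G ⧸ ⁅N, N⁆ := QuotientGroup.mk' ⁅N, N⁆
  have hcen : ∀ n : N, y * (n : G) * y⁻¹ * (n : G)⁻¹ ∉ ⁅N, N⁆ →
      H0 ≤ Subgroup.centralizer {(n : G)} →
      Set.InjOn π (H0 : Set G) ∧ ∀ c ∈ N, c * n = n * c → c ∈ H0 := by
    intro n hn hle0
    set Cn := Subgroup.centralizer ({n} : Set N)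
    have h1 : H0.subgroupOf N ≤ Cn := fun c hc =>
      Subgroup.mem_centralizer_singleton_iff.mpr (Subtype.ext
        (Subgroup.mem_centralizer_singleton_iff.mp (hle0 hc)))
    have h2 : Nat.card Cn = (commutator N).index := natCard_centralizer_of_vanish n (hvan n hn)
    have h3 : Nat.card (N.map π) = (commutator N).index := by
      rw [Subgroup.index_eq_card]
      have e : (π.subgroupMap N).ker = commutator N := by
        ext z
        rw [MonoidHom.mem_ker, Palfy.mem_commutator_subgroup, ← QuotientGroup.eq_one_iff]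
        exact Subtype.ext_iff
      exact (Nat.card_congr ((QuotientGroup.quotientMulEquivOfEq e.symm).trans
        (QuotientGroup.quotientKerEquivOfSurjective _ (π.subgroupMap_surjective N))).toEquiv).symm
    have h4 : N.map π = H0.map π := by
      refine (congrArg (Subgroup.map π) hsup.symm).trans ?_
      rw [Subgroup.map_sup, QuotientGroup.map_mk'_self, bot_sup_eq]
    have h5 : Nat.card (H0.subgroupOf N) = Nat.card H0 :=
      Nat.card_congr (Subgroup.subgroupOfEquivOfLe hH0N).toEquiv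
    have h6 : Nat.card (H0.subgroupOf N) ≤ Nat.card Cn :=
      Nat.card_le_card_of_injective _ (Subgroup.inclusion_injective h1)
    have hs := π.subgroupMap_surjective H0
    have h7 : Nat.card (H0.map π) ≤ Nat.card H0 := Nat.card_le_card_of_surjective _ hs
    rw [← h4, h3] at h7
    have hbij : Function.Bijective (π.subgroupMap H0) :=
      (Nat.bijective_iff_surjective_and_card _).mpr ⟨hs, by rw [← h4, h3]; omega⟩
    refine ⟨fun u hu v hv e => congrArg Subtype.val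
      (hbij.1 (a₁ := ⟨u, hu⟩) (a₂ := ⟨v, hv⟩) (Subtype.ext e)), fun c hc e => ?_⟩
    have h8 : H0.subgroupOf N = Cn := Subgroup.eq_of_le_of_card_ge h1 (by omega)
    exact (h8.symm.le (Subgroup.mem_centralizer_singleton_iff.mpr
      (Subtype.ext e : (⟨c, hc⟩ : N) * n = n * ⟨c, hc⟩)) :)
  obtain ⟨g, hg, hgy⟩ := T.moves
  have hgN : y * g * y⁻¹ * g⁻¹ ∈ Q :=
    mul_mem ((Subgroup.mem_normalizer_iff.mp T.nrm g).mp hg) (inv_mem hg)
  have hQM : ∀ z ∈ Q, z ∈ M → z = 1 := fun z hz hz' => by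
    have h0 : (⟨z, T.le hz⟩ : N) ∈ Q.subgroupOf N ⊓ M.subgroupOf N := ⟨hz, hz'⟩
    have h := Subgroup.mem_bot.mp ((disjoint_iff.mp hM.disjoint).le h0)
    exact congrArg Subtype.val h
  have hgn : y * g * y⁻¹ * g⁻¹ ∉ ⁅N, N⁆ := fun h =>
    hgy (mul_inv_eq_iff_eq_mul.mp (mul_inv_eq_one.mp (hQM _ hgN (hNM h))))
  obtain ⟨hinj, -⟩ := hcen ⟨g, T.le hg⟩ hgn (sup_le
    (fun a ha => Subgroup.mem_centralizer_singleton_iff.mpr (hQ a ha g hg))
    (fun c hc => Subgroup.mem_centralizer_singleton_iff.mpr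
      (Subgroup.mem_centralizer_iff.mp (Subgroup.mem_inf.mp hc).2 g hg).symm))
  have hinf : ∀ h ∈ H0, h ∈ ⁅N, N⁆ → h = 1 := fun h hh hA =>
    hinj hh H0.one_mem (by rw [map_one]; exact (QuotientGroup.eq_one_iff h).mpr hA)
  have hcomm : ∀ a ∈ H0, ∀ b ∈ H0, a * b = b * a := fun a ha b hb =>
    commutatorElement_eq_one_iff_mul_comm.mp (hinf _
      (mul_mem (mul_mem (mul_mem ha hb) (inv_mem ha)) (inv_mem hb))
      (Subgroup.commutator_mem_commutator (hH0N ha) (hH0N hb)))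
  have hyQ : ∀ a : G, a ∈ Q ↔ y * a * y⁻¹ ∈ Q := Subgroup.mem_normalizer_iff.mp T.nrm
  have hnrm : y ∈ Subgroup.normalizer (H0 : Set G) := by
    have hyC : y ∈ Subgroup.normalizer (C : Set G) := by
      have key : ∀ z : G, (∀ a : G, a ∈ Q ↔ z * a * z⁻¹ ∈ Q) → ∀ c ∈ C, z * c * z⁻¹ ∈ C := by
        intro z hz c hc
        refine ⟨Subgroup.Normal.conj_mem inferInstance _ hc.1 z, Subgroup.mem_centralizer_iff.mpr fun a ha => ?_⟩
        have h1 : z⁻¹ * a * z ∈ Q := (hz _).mpr (by simpa [mul_assoc] using ha)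
        calc a * (z * c * z⁻¹) = z * ((z⁻¹ * a * z) * c) * z⁻¹ := by group
          _ = z * (c * (z⁻¹ * a * z)) * z⁻¹ := by rw [Subgroup.mem_centralizer_iff.mp hc.2 _ h1]
          _ = z * c * z⁻¹ * a := by group
      refine Subgroup.mem_normalizer_iff.mpr fun c => ⟨key y hyQ c, fun hc => ?_⟩
      have := key y⁻¹ (fun a => by
        rw [hyQ (y⁻¹ * a * y⁻¹⁻¹)]
        simp [mul_assoc]) _ hc
      simpa [mul_assoc] using this
    have key : ∀ z : G, z ∈ Subgroup.normalizer (Q : Set G) → z ∈ Subgroup.normalizer (C : Set G) →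
        H0 ≤ H0.comap (MulAut.conj z).toMonoidHom := fun z h1 h2 =>
      sup_le (fun a ha => Subgroup.mem_sup_left ((Subgroup.mem_normalizer_iff.mp h1 a).mp ha))
        (fun a ha => Subgroup.mem_sup_right ((Subgroup.mem_normalizer_iff.mp h2 a).mp ha))
    refine Subgroup.mem_normalizer_iff.mpr fun a => ⟨fun ha => key y T.nrm hyC ha, fun ha => ?_⟩
    have := key y⁻¹ (inv_mem T.nrm) (inv_mem hyC) ha
    simpa [mul_assoc] using this
  refine ⟨H0,
    { prime := T.hf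
      le := hH0N
      comm := hcomm
      inf := eq_bot_iff.mpr fun h hh => Subgroup.mem_bot.mpr
        (hinf h (Subgroup.mem_inf.mp hh).2 (Subgroup.mem_inf.mp hh).1)
      sup := hsup
      nrm := hnrm
      ford := T.ford
      fmem := T.fmem
      fpf := ?_
      moved := ⟨g, Subgroup.mem_sup_left hg, ?_, hgy⟩
      inv := T.inv
      ndvd := T.ndvd
      nd := T.nd }⟩
  · intro h hh hne a ha e
    have h1 : y * h * y⁻¹ * h⁻¹ ∈ H0 :=
      mul_mem ((Subgroup.mem_normalizer_iff.mp hnrm h).mp hh) (inv_mem hh)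
    obtain ⟨-, h2⟩ := hcen ⟨h, hH0N hh⟩
      (fun hA => hne (mul_inv_eq_iff_eq_mul.mp (mul_inv_eq_one.mp (hinf _ h1 hA))))
      (fun c hc => Subgroup.mem_centralizer_singleton_iff.mpr (hcomm c hc h hh))
    exact hinf a (h2 a (Subgroup.commutator_le_right N N ha) e.symm) ha
  · intro hd
    obtain ⟨i, hi⟩ := IsPGroup.iff_orderOf.mp T.pgroup ⟨g, hg⟩
    rw [Subgroup.orderOf_mk] at hi
    rw [hi] at hd
    exact T.ne.symm ((Nat.prime_dvd_prime_iff_eq T.hf T.hq).mp (T.hf.dvd_of_dvd_pow hd))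

/-- There is only one nonlinear degree. -/
theorem degree_eq [Group.IsSolvable G] {ψ ψ' : N → ℂ}
    (hψ : Cfsg.IsIrrCharacter N ψ) (h1 : ψ 1 ≠ 1) (hψ' : Cfsg.IsIrrCharacter N ψ') (h1' : ψ' 1 ≠ 1) :
    Cfsg.charDegree ψ = Cfsg.charDegree ψ' := by
  obtain ⟨M, hMn, hle, hMq, hM⟩ := T.exists_compl
  by_cases hQ : ∀ a ∈ Q, ∀ b ∈ Q, a * b = b * a
  · obtain ⟨H0, S⟩ := T.split hle hMq hM hQ
    exact S.degree_eq_all hψ h1 hψ' h1'
  · exact T.degree_eq_of_comm hM hle (T.comm_of_noncomm hle hMq hM hQ) hψ h1 hψ' h1'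

end Sit

end CfsgLib.BlockB.TwoComp
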