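import Cfsg.Agent.Lib.BlockB.TwoComp.Twisted
import Cfsg.Agent.Lib.BlockB.Palfy.Semi
import Cfsg.Agent.Lib.BlockB.Palfy.NormalMain

/-!
# A normal subgroup split over its derived group, with nonlinear degrees not dividing one another
-/

set_option autoImplicit false

namespace CfsgLib.BlockB.TwoComp

open CfsgLib CfsgLib.Clifford
open CfsgLib.BlockB.Palfy (dualAction linFn mem_inertia_linFn)
open scoped commutatorElement

universe u

variable {G : Type u} [Group G]

/-- `N` is split over its derived group by the abelian `H0`, which `y` normalises; `y` fixes the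
nonlinear characters of `N`, whose degrees are prime to `f` and do not properly divide one
another; elements of `H0` moved by `y` fix no element of the derived group. -/
structure Split (N H0 : Subgroup G) [N.Normal] (y : G) (f : ℕ) : Prop where
  prime : f.Prime
  le : H0 ≤ N
  comm : ∀ a ∈ H0, ∀ b ∈ H0, a * b = b * a
  inf : ⁅N, N⁆ ⊓ H0 = ⊥
  sup : ⁅N, N⁆ ⊔ H0 = N
  nrm : y ∈ Subgroup.normalizer (H0 : Set G)
  ford : ∃ k, y ^ f ^ k = 1
  fmem : y ^ f ∈ N
  fpf : ∀ h ∈ H0, y * h ≠ h * y → ∀ a ∈ ⁅N, N⁆, h * a = a * h → a = 1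
  moved : ∃ g ∈ H0, ¬ f ∣ orderOf g ∧ y * g ≠ g * y
  inv : ∀ ψ : N → ℂ, Cfsg.IsIrrCharacter N ψ → ψ 1 ≠ 1 → y ∈ inertia ψ
  ndvd : ∀ ψ : N → ℂ, Cfsg.IsIrrCharacter N ψ → ψ 1 ≠ 1 → ¬ f ∣ Cfsg.charDegree ψ
  nd : ∀ ψ ψ' : N → ℂ, Cfsg.IsIrrCharacter N ψ → ψ 1 ≠ 1 → Cfsg.IsIrrCharacter N ψ' → ψ' 1 ≠ 1 →
    Cfsg.charDegree ψ ∣ Cfsg.charDegree ψ' → Cfsg.charDegree ψ = Cfsg.charDegree ψ'

/-- The automorphism of a subgroup given by an element of its normaliser. -/
def conjAut {H0 : Subgroup G} {y : G} (hy : y ∈ Subgroup.normalizer (H0 : Set G)) : H0 ≃* H0 where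
  toFun h := ⟨y * h * y⁻¹, (Subgroup.mem_normalizer_iff.mp hy _).mp h.2⟩
  invFun h := ⟨y⁻¹ * h * y, (Subgroup.mem_normalizer_iff.mp hy _).mpr (by simp [mul_assoc])⟩
  left_inv h := Subtype.ext (by simp [mul_assoc])
  right_inv h := Subtype.ext (by simp [mul_assoc])
  map_mul' a b := Subtype.ext (by simp [mul_assoc])

/-- The automorphism of the linear characters of a normal subgroup given by conjugation. -/
def dualAut (A : Subgroup G) [A.Normal] (y : G) : (A →* ℂˣ) ≃* (A →* ℂˣ) where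
  toFun l := l.comp (MulAut.conjNormal (H := A) y⁻¹).toMonoidHom
  invFun l := l.comp (MulAut.conjNormal (H := A) y).toMonoidHom
  left_inv l := MonoidHom.ext fun a => congrArg l (Subtype.ext (by simp [mul_assoc]))
  right_inv l := MonoidHom.ext fun a => congrArg l (Subtype.ext (by simp [mul_assoc]))
  map_mul' _ _ := rfl

theorem dualAut_apply (A : Subgroup G) [A.Normal] (y : G) (l : A →* ℂˣ) (a : A) :
    dualAut A y l a = l (conjN y⁻¹ a) := rfl

variable [Finite G] {N H0 : Subgroup G} [N.Normal] {y : G} {f : ℕ}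

/-- The derived group of `N` inside `N`. -/
noncomputable def eqv (N : Subgroup G) : commutator N ≃* (⁅N, N⁆ : Subgroup G) :=
  ((commutator N).equivMapOfInjective N.subtype N.subtype_injective).trans
    (MulEquiv.subgroupCongr N.map_subtype_commutator)

omit [Finite G] [N.Normal] in
theorem coe_eqv (a : commutator N) : ((eqv N a : (⁅N, N⁆ : Subgroup G)) : G) = ((a : N) : G) := rfl

omit [Finite G] in
theorem mem_inertia_pull {l : (⁅N, N⁆ : Subgroup G) →* ℂˣ} {x : N} :
    x ∈ inertia (linFn (l.comp (eqv N).toMonoidHom)) ↔ (x : G) ∈ inertia (linFn l) := by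
  rw [mem_inertia_linFn, mem_inertia_linFn]
  refine ⟨fun h a => ?_, fun h a => ?_⟩
  · have h1 := h ((eqv N).symm a)
    simp only [MonoidHom.comp_apply, MulEquiv.coe_toMonoidHom, MulEquiv.apply_symm_apply] at h1
    rw [← h1]
    refine congrArg l (Subtype.ext ?_)
    have e : (((eqv N).symm a : N) : G) = a := by rw [← coe_eqv, MulEquiv.apply_symm_apply]
    simp [coe_eqv, e]
  · simp only [MonoidHom.comp_apply, MulEquiv.coe_toMonoidHom]
    rw [← h (eqv N a)]
    exact congrArg l (Subtype.ext rfl)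

namespace Split

variable (S : Split N H0 y f)

include S

omit [Finite G] in
theorem comm_coe (a b : H0) : a * b = b * a := Subtype.ext (S.comm a a.2 b b.2)

/-- Conjugation-difference on the derived group is onto. -/
theorem surj {h : G} (hh : h ∈ H0) (hy : y * h ≠ h * y) (c : G) (hc : c ∈ ⁅N, N⁆) :
    ∃ a ∈ ⁅N, N⁆, a⁻¹ * (h * a * h⁻¹) = c := by
  have hn : (⁅N, N⁆ : Subgroup G).Normal := inferInstance
  let φ : (⁅N, N⁆ : Subgroup G) → (⁅N, N⁆ : Subgroup G) := fun a =>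
    ⟨(a : G)⁻¹ * (h * a * h⁻¹), mul_mem (inv_mem a.2) (hn.conj_mem _ a.2 h)⟩
  have hinj : Function.Injective φ := fun a b e => by
    have e' : (a : G)⁻¹ * (h * a * h⁻¹) = (b : G)⁻¹ * (h * b * h⁻¹) := congrArg Subtype.val e
    have e2 : h * ((a : G) * (b : G)⁻¹) * h⁻¹ = (a : G) * (b : G)⁻¹ := by
      calc h * ((a : G) * (b : G)⁻¹) * h⁻¹
          = (a : G) * ((a : G)⁻¹ * (h * a * h⁻¹)) * ((b : G)⁻¹ * (h * b * h⁻¹))⁻¹ * (b : G)⁻¹ := by
            group
        _ = (a : G) * (b : G)⁻¹ := by rw [e']; group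
    exact Subtype.ext (mul_inv_eq_one.mp
      (S.fpf h hh hy _ (mul_mem a.2 (inv_mem b.2)) (mul_inv_eq_iff_eq_mul.mp e2)))
  obtain ⟨a, ha⟩ := (Finite.injective_iff_surjective.mp hinj) ⟨c, hc⟩
  exact ⟨a, a.2, congrArg Subtype.val ha⟩

/-- An element moved by `y` fixes no nontrivial linear character of the derived group. -/
theorem nofix {h : H0} (hy : y * (h : G) ≠ h * y) {l : (⁅N, N⁆ : Subgroup G) →* ℂˣ}
    (hl : (h : G) ∈ inertia (linFn l)) : l = 1 := by
  refine MonoidHom.ext fun c => ?_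
  obtain ⟨a, ha, e⟩ := S.surj h.2 hy c c.2
  have e' : c = (⟨a, ha⟩ : (⁅N, N⁆ : Subgroup G))⁻¹ * conjN (h : G) ⟨a, ha⟩ :=
    Subtype.ext (by rw [Subgroup.coe_mul, Subgroup.coe_inv, coe_conjN]; exact e.symm)
  rw [e', map_mul, map_inv, mem_inertia_linFn.mp hl, inv_mul_cancel, MonoidHom.one_apply]

theorem stab_comm {l : (⁅N, N⁆ : Subgroup G) →* ℂˣ} (hl : l ≠ 1) {h : H0}
    (hh : letI := dualAction H0 ⁅N, N⁆; h • l = l) : y * (h : G) = h * y := by
  by_contra hne
  exact hl (S.nofix hne ((Palfy.mem_stabilizer_dual H0 ⁅N, N⁆ h l).mp hh))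

theorem compl : (H0.subgroupOf N).IsComplement' (commutator N) := by
  have hd : Disjoint (H0.subgroupOf N) (commutator N) := by
    rw [disjoint_iff, eq_bot_iff]
    intro x hx
    have h1 : (x : G) ∈ ⁅N, N⁆ ⊓ H0 := Subgroup.mem_inf.mpr
      ⟨Palfy.mem_commutator_subgroup.mp (Subgroup.mem_inf.mp hx).2, (Subgroup.mem_inf.mp hx).1⟩
    rw [S.inf, Subgroup.mem_bot] at h1
    exact Subgroup.mem_bot.mpr (Subtype.ext h1)
  refine Subgroup.isComplement'_of_disjoint_and_mul_eq_univ hd (Set.eq_univ_of_forall fun x => ?_)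
  have hx : (x : G) ∈ H0 ⊔ ⁅N, N⁆ := by rw [sup_comm, S.sup]; exact x.2
  obtain ⟨h, hh, a, ha, e⟩ := Subgroup.mem_sup_of_normal_right.mp hx
  exact Set.mem_mul.mpr ⟨⟨h, S.le hh⟩, hh, ⟨a, Subgroup.commutator_le_right N N ha⟩,
    Palfy.mem_commutator_subgroup.mpr ha, Subtype.ext e⟩

/-- The projection of `N` onto `H0`. -/
theorem exists_proj' : ∃ π : N →* H0, π.ker = commutator N ∧
    ∀ x : H0, π ⟨x, S.le x.2⟩ = x := by
  obtain ⟨π, hk, hr⟩ := Palfy.exists_proj S.compl
  let e := Subgroup.subgroupOfEquivOfLe S.le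
  refine ⟨e.toMonoidHom.comp π, ?_, fun x => ?_⟩
  · ext z
    rw [MonoidHom.mem_ker, MonoidHom.comp_apply, MulEquiv.coe_toMonoidHom,
      EmbeddingLike.map_eq_one_iff, ← hk, MonoidHom.mem_ker]
  · show e (π ((e.symm x : H0.subgroupOf N) : N)) = x
    rw [hr]
    exact e.apply_symm_apply x

/-- The orbit length of a linear character of the derived group is a degree of `N`. -/
theorem exists_degree {l : (⁅N, N⁆ : Subgroup G) →* ℂˣ} (hl : l ≠ 1) :
    letI := dualAction H0 ⁅N, N⁆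
    1 < (MulAction.stabilizer H0 l).index ∧
      (inertia (linFn (l.comp (eqv N).toMonoidHom))).index = (MulAction.stabilizer H0 l).index ∧
      ∃ ψ : N → ℂ, Cfsg.IsIrrCharacter N ψ ∧ ψ 1 ≠ 1 ∧
        Cfsg.charDegree ψ = (MulAction.stabilizer H0 l).index := by
  letI := dualAction H0 ⁅N, N⁆
  obtain ⟨g, hg, -, hgy⟩ := S.moved
  have h1 : 1 < (MulAction.stabilizer H0 l).index := by
    refine Subgroup.one_lt_index_of_ne_top fun e => hl (S.nofix (h := ⟨g, hg⟩) hgy ?_)
    exact (Palfy.mem_stabilizer_dual H0 ⁅N, N⁆ ⟨g, hg⟩ l).mp (e.ge (Subgroup.mem_top _))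
  obtain ⟨π, hk, hr⟩ := S.exists_proj'
  set lam := l.comp (eqv N).toMonoidHom
  set I := inertia (linFn lam)
  have hlam : Cfsg.IsIrrCharacter (commutator N) (linFn lam) := Char.isIrrCharacter_linear lam
  have hAI : commutator N ≤ I := le_inertia (Char.irr_isClassFunction hlam)
  have hmem : ∀ x : N, x * (⟨(π x : G), S.le (π x).2⟩ : N)⁻¹ ∈ commutator N := fun x => hk.le (by
    rw [MonoidHom.mem_ker, map_mul, map_inv, hr, mul_inv_cancel])
  have hπI : ∀ x ∈ I, (⟨(π x : G), S.le (π x).2⟩ : N) ∈ I := fun x hx => by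
    have h2 := mul_mem (inv_mem (hAI (hmem x))) hx
    rwa [mul_inv_rev, inv_inv, inv_mul_cancel_right] at h2
  have e : I.map π = MulAction.stabilizer H0 l := by
    ext a
    rw [Palfy.mem_stabilizer_dual]
    constructor
    · rintro ⟨x, hx, rfl⟩
      exact mem_inertia_pull.mp (hπI x hx)
    · exact fun ha => ⟨⟨a, S.le a.2⟩, mem_inertia_pull.mpr ha, hr a⟩
  have hidx : I.index = (MulAction.stabilizer H0 l).index := by
    rw [← e, Subgroup.index_map_eq _ (fun x => ⟨_, hr x⟩) (hk.le.trans hAI)]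
  let L : I →* ℂˣ := MonoidHom.mk'
    (fun x => lam ⟨(x : N) * (⟨(π x : G), S.le (π x).2⟩ : N)⁻¹, hmem x⟩) fun a b => by
      set z : commutator N := ⟨(b : N) * (⟨(π b : G), S.le (π b).2⟩ : N)⁻¹, hmem b⟩
      rw [← mem_inertia_linFn.mp (hπI a a.2) z, ← map_mul]
      refine congrArg lam (Subtype.ext (Subtype.ext ?_))
      simp [z, mul_assoc]
  have hext : ∀ (n : commutator N) (t : I), (t : N) = n → ((L t : ℂˣ) : ℂ) = linFn lam n := by
    intro n t ht
    refine congrArg (fun x : commutator N => ((lam x : ℂˣ) : ℂ)) (Subtype.ext ?_)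
    show (t : N) * (⟨(π t : G), S.le (π t).2⟩ : N)⁻¹ = n
    have h3 : π (t : N) = 1 := by rw [ht]; exact MonoidHom.mem_ker.mp (hk.symm.le n.2)
    rw [show (⟨(π t : G), S.le (π t).2⟩ : N) = 1 from Subtype.ext (by rw [h3]; rfl), inv_one,
      mul_one, ht]
  obtain ⟨ψ, hψ, hd⟩ := Palfy.exists_deg_of_complement hlam
    (Char.irr_isCharacter (Char.isIrrCharacter_linear L)) hext (π.subgroupMap I)
    (π.subgroupMap_surjective I) (fun t ht => Subtype.ext (MonoidHom.mem_ker.mp (hk.symm.le ht)))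
    (Char.isIrrCharacter_one (G := I.map π))
  have e1 : Cfsg.charDegree (linFn lam) = 1 :=
    (Palfy.charDegree_eq_one_iff hlam).mp (by simp [linFn])
  have e2 : Cfsg.charDegree (fun _ : I.map π => (1 : ℂ)) = 1 :=
    (Palfy.charDegree_eq_one_iff Char.isIrrCharacter_one).mp rfl
  rw [e1, e2, mul_one, mul_one, hidx] at hd
  exact ⟨h1, hidx, ψ, hψ, fun h => by
    rw [(Palfy.charDegree_eq_one_iff hψ).mp h] at hd; omega, hd⟩

/-- All nontrivial linear characters of the derived group have the same stabiliser. -/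
theorem stab_eq :
    letI := dualAction H0 ⁅N, N⁆
    ∀ v w : (⁅N, N⁆ : Subgroup G) →* ℂˣ, v ≠ 1 → w ≠ 1 →
      MulAction.stabilizer H0 v = MulAction.stabilizer H0 w := by
  letI := dualAction H0 ⁅N, N⁆
  have : Finite ((⁅N, N⁆ : Subgroup G) →* ℂˣ) := Palfy.finite_linear
  refine common_stab (W := (⁅N, N⁆ : Subgroup G) →* ℂˣ) S.comm_coe fun v w hv hw hle => ?_
  obtain ⟨-, -, ψ, hψ, hψ1, hd⟩ := S.exists_degree hv
  obtain ⟨-, -, ψ', hψ', hψ'1, hd'⟩ := S.exists_degree hw
  have e := S.nd ψ' ψ hψ' hψ'1 hψ hψ1 (by rw [hd, hd']; exact Subgroup.index_dvd_of_le hle)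
  rw [hd, hd'] at e
  by_contra hne
  exact absurd (Subgroup.index_strictAnti (lt_of_le_of_ne hle hne)) (by omega)

/-- Every nonlinear degree over a nontrivial linear character is its orbit length. -/
theorem degree_over {ψ : N → ℂ} [Fintype N] [Fintype (commutator N)]
    (hψ : Cfsg.IsIrrCharacter N ψ) {l : (⁅N, N⁆ : Subgroup G) →* ℂˣ} (hl : l ≠ 1)
    (h : Cfsg.classInner (fun a : commutator N => ψ a)
      (linFn (l.comp (eqv N).toMonoidHom)) ≠ 0) :
    letI := dualAction H0 ⁅N, N⁆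
    ψ 1 ≠ 1 ∧ Cfsg.charDegree ψ = (MulAction.stabilizer H0 l).index := by
  letI := dualAction H0 ⁅N, N⁆
  obtain ⟨h1, hidx, ψ', hψ', hψ'1, hd⟩ := S.exists_degree hl
  have hdvd := Degrees.index_inertia_mul_dvd (commutator N)
    (Char.isIrrCharacter_linear (l.comp (eqv N).toMonoidHom)) hψ h
  have hdvd' : (MulAction.stabilizer H0 l).index ∣ Cfsg.charDegree ψ := hidx ▸ (dvd_mul_right _ _).trans hdvd
  have hne : ψ 1 ≠ 1 := fun e => by
    rw [(Palfy.charDegree_eq_one_iff hψ).mp e] at hdvd'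
    exact absurd (Nat.le_of_dvd one_pos hdvd') (by omega)
  exact ⟨hne, (S.nd ψ' ψ hψ' hψ'1 hψ hne (hd ▸ hdvd')).symm.trans hd⟩

/-- `y` preserves the orbits. -/
theorem orbit {l : (⁅N, N⁆ : Subgroup G) →* ℂˣ} (hl : l ≠ 1) :
    letI := dualAction H0 ⁅N, N⁆
    ∃ h : H0, dualAut ⁅N, N⁆ y l = h • l := by
  letI := dualAction H0 ⁅N, N⁆
  have := Fintype.ofFinite N
  have := Fintype.ofFinite (commutator N)
  set lam := l.comp (eqv N).toMonoidHom with hlam
  obtain ⟨ψ, hψ, hne⟩ := Degrees.exists_over (commutator N) (Char.isIrrCharacter_linear lam)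
  have h1 := (S.degree_over hψ hl hne).1
  set mu := (dualAut ⁅N, N⁆ y l).comp (eqv N).toMonoidHom with hmu
  let c : commutator N →* commutator N :=
    ((eqv N).symm.toMonoidHom.comp (MulAut.conjNormal (H := (⁅N, N⁆ : Subgroup G)) y).toMonoidHom).comp
      (eqv N).toMonoidHom
  have hc : Function.Surjective c :=
    ((eqv N).symm.surjective.comp (MulAut.conjNormal (H := (⁅N, N⁆ : Subgroup G)) y).surjective).comp
      (eqv N).surjective
  have hne2 : Cfsg.classInner (fun a : commutator N => ψ a) (linFn mu) ≠ 0 := by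
    rw [← OverTheta.classInner_comp_surjective c hc]
    have e1 : (fun a : commutator N => ψ a) ∘ c = fun a : commutator N => ψ a := funext fun a => by
      show ψ (c a) = ψ a
      rw [← S.inv ψ hψ h1 (a : N)]
      refine congrArg ψ (Subtype.ext ?_)
      show (((eqv N).symm _ : N) : G) = _
      rw [← coe_eqv, MulEquiv.apply_symm_apply]
      rfl
    have e2 : linFn mu ∘ c = linFn lam := funext fun a => by
      show ((mu (c a) : ℂˣ) : ℂ) = ((lam a : ℂˣ) : ℂ)
      refine congrArg Units.val ?_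
      show dualAut ⁅N, N⁆ y l (eqv N ((eqv N).symm _)) = l (eqv N a)
      rw [MulEquiv.apply_symm_apply, dualAut_apply]
      exact congrArg l (Subtype.ext (by simp [mul_assoc]))
    rw [e1, e2]
    exact hne
  obtain ⟨x, hx⟩ := exists_conj_of_constituents hψ (Char.isIrrCharacter_linear lam)
    (Char.isIrrCharacter_linear mu) hne hne2
  obtain ⟨π, hk, hr⟩ := S.exists_proj'
  refine ⟨(π x)⁻¹, MonoidHom.ext fun a => ?_⟩
  have hxa : x * (⟨(π x : G), S.le (π x).2⟩ : N)⁻¹ ∈ commutator N := hk.le (by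
    rw [MonoidHom.mem_ker, map_mul, map_inv, hr, mul_inv_cancel])
  set w : (⁅N, N⁆ : Subgroup G) := eqv N ⟨_, hxa⟩ with hw
  have h2 := congr_fun hx ((eqv N).symm a)
  simp only [conjFn_apply, linFn, Units.val_inj] at h2
  rw [hmu, hlam, MonoidHom.comp_apply, MonoidHom.comp_apply, MulEquiv.coe_toMonoidHom,
    MulEquiv.apply_symm_apply] at h2
  rw [← h2, Palfy.dual_smul_apply]
  have e : eqv N (conjN x ((eqv N).symm a)) = w * conjN ((π x : G)) a * w⁻¹ := by
    refine Subtype.ext ?_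
    rw [coe_eqv]
    have ea : ((((eqv N).symm a : commutator N) : N) : G) = a := by
      rw [← coe_eqv, MulEquiv.apply_symm_apply]
    simp [hw, coe_eqv, ea, mul_assoc]
  rw [e, map_mul, map_mul, map_inv, mul_inv_cancel_comm]
  exact congrArg l (Subtype.ext (by simp))

/-- The twisted action satisfies the hypotheses of the counting. -/
theorem semi [Group.IsSolvable G] (hA : ⁅N, N⁆ ≠ ⊥) :
    letI := dualAction H0 ⁅N, N⁆
    ∃ R : Subgroup H0,
      Semi (W := (⁅N, N⁆ : Subgroup G) →* ℂˣ) (conjAut S.nrm) (dualAut ⁅N, N⁆ y) R f ∧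
      (∀ h ∈ R, y * (h : G) = h * y) ∧
      ∃ ψ : N → ℂ, Cfsg.IsIrrCharacter N ψ ∧ ψ 1 ≠ 1 ∧ Cfsg.charDegree ψ = R.index := by
  letI := dualAction H0 ⁅N, N⁆
  have : Nontrivial ((⁅N, N⁆ : Subgroup G) →* ℂˣ) := by
    have : Nontrivial (⁅N, N⁆ : Subgroup G) := (Subgroup.nontrivial_iff_ne_bot _).mpr hA
    obtain ⟨a, ha⟩ : ∃ a, a ∉ commutator (⁅N, N⁆ : Subgroup G) := by
      by_contra! hall
      exact (Group.IsSolvable.commutator_lt_top_of_nontrivial (⁅N, N⁆ : Subgroup G)).ne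
        (top_le_iff.mp fun x _ => hall x)
    obtain ⟨l, hl⟩ := Palfy.exists_linear_sep ha
    exact ⟨⟨l, 1, fun e => hl (by rw [e, MonoidHom.one_apply])⟩⟩
  obtain ⟨l0, hl0⟩ := exists_ne (1 : (⁅N, N⁆ : Subgroup G) →* ℂˣ)
  obtain ⟨-, -, ψ, hψ, hψ1, hd⟩ := S.exists_degree hl0
  set R := MulAction.stabilizer H0 l0
  have hstab : ∀ w : (⁅N, N⁆ : Subgroup G) →* ℂˣ, w ≠ 1 → MulAction.stabilizer H0 w = R :=
    fun w hw => S.stab_eq w l0 hw hl0
  have hR : ∀ h ∈ R, y * (h : G) = h * y := fun h hh => S.stab_comm hl0 hh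
  have hndvd : ¬ f ∣ R.index := hd ▸ S.ndvd ψ hψ hψ1
  have hsmulR : ∀ h ∈ R, ∀ w : (⁅N, N⁆ : Subgroup G) →* ℂˣ, h • w = w := fun h hh w => by
    rcases eq_or_ne w 1 with rfl | hw
    · exact MonoidHom.ext fun _ => rfl
    · exact MulAction.mem_stabilizer_iff.mp ((hstab w hw).ge hh)
  refine ⟨R, ?_, hR, ψ, hψ, hψ1, hd⟩
  refine
    { hc := S.comm_coe
      stab := hstab
      semi := fun h l => MonoidHom.ext fun a => congrArg l (Subtype.ext (by simp [conjAut, mul_assoc]))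
      orb := fun w hw => S.orbit hw
      prime := S.prime
      per := ?_
      ndvd := hndvd
      nontriv := ?_
      nontrivW := inferInstance }
  · intro w
    have hit : ∀ (n : ℕ) (v : (⁅N, N⁆ : Subgroup G) →* ℂˣ),
        (dualAut ⁅N, N⁆ y)^[n] v = dualAut ⁅N, N⁆ (y ^ n) v := by
      intro n
      induction n with
      | zero => exact fun v => MonoidHom.ext fun a => congrArg v (Subtype.ext (by simp))
      | succ n ih =>
          intro v
          rw [Function.iterate_succ_apply', ih]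
          exact MonoidHom.ext fun a => congrArg v (Subtype.ext (by simp [pow_succ', mul_assoc]))
    obtain ⟨a₀, ha₀, h₀, hh₀, hyf⟩ := Subgroup.mem_sup_of_normal_left.mp
      (S.sup.symm ▸ S.fmem : y ^ f ∈ ⁅N, N⁆ ⊔ H0)
    have hact : ∀ v : (⁅N, N⁆ : Subgroup G) →* ℂˣ,
        dualAut ⁅N, N⁆ (y ^ f) v = (⟨h₀, hh₀⟩ : H0) • v := fun v => MonoidHom.ext fun a => by
      rw [dualAut_apply, Palfy.dual_smul_apply,
        show conjN (y ^ f)⁻¹ a = conjN h₀⁻¹ ((⟨a₀, ha₀⟩ : (⁅N, N⁆ : Subgroup G))⁻¹ * a * ⟨a₀, ha₀⟩)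
          from Subtype.ext (by simp [← hyf, mul_assoc]),
        (show conjN h₀⁻¹ ((⟨a₀, ha₀⟩ : (⁅N, N⁆ : Subgroup G))⁻¹ * a * ⟨a₀, ha₀⟩) =
            (conjN h₀⁻¹ ⟨a₀, ha₀⟩)⁻¹ * conjN h₀⁻¹ a * conjN h₀⁻¹ ⟨a₀, ha₀⟩
          from Subtype.ext (by simp [mul_assoc])), map_mul, map_mul, map_inv, inv_mul_cancel_comm]
    rw [hit, hact]
    refine hsmulR _ ?_ w
    obtain ⟨k, hk⟩ := S.ford
    have hpow : ∀ i : ℕ, ∀ v : (⁅N, N⁆ : Subgroup G) →* ℂˣ,
        dualAut ⁅N, N⁆ (y ^ (f * i)) v = (⟨h₀, hh₀⟩ : H0) ^ i • v := by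
      intro i
      induction i with
      | zero => exact fun v => MonoidHom.ext fun a => congrArg v (Subtype.ext (by simp))
      | succ i ih =>
          intro v
          rw [pow_succ' (⟨h₀, hh₀⟩ : H0), mul_smul, ← ih, ← hact,
            show y ^ (f * (i + 1)) = y ^ f * y ^ (f * i) by rw [← pow_add]; congr 1; ring]
          generalize y ^ f = p
          generalize y ^ (f * i) = q
          exact MonoidHom.ext fun a => congrArg v (Subtype.ext (by simp [mul_assoc]))
    have h1 : (⟨h₀, hh₀⟩ : H0) ^ f ^ k ∈ R := by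
      rw [MulAction.mem_stabilizer_iff, ← hpow, pow_mul', hk, one_pow]
      exact MonoidHom.ext fun a => congrArg l0 (Subtype.ext (by simp))
    have : R.Normal := ⟨fun x hx g => by rwa [S.comm_coe g x, mul_inv_cancel_right]⟩
    have h2 := R.pow_index_mem (⟨h₀, hh₀⟩ : H0)
    rw [← QuotientGroup.eq_one_iff, QuotientGroup.mk_pow] at h1 h2
    rw [← QuotientGroup.eq_one_iff]
    have := pow_gcd_eq_one.mpr ⟨h1, h2⟩
    rwa [show Nat.gcd (f ^ k) R.index = 1 from
      (S.prime.coprime_iff_not_dvd.mpr hndvd).pow_left k, pow_one] at this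
  · obtain ⟨g, hg, hgf, hgy⟩ := S.moved
    refine ⟨⟨g, hg⟩, fun hr => hgy ?_⟩
    set r := y * g * y⁻¹ * g⁻¹ with hrdef
    have hry : y * r = r * y := hR _ hr
    have hit : ∀ n : ℕ, y ^ n * g * (y ^ n)⁻¹ = r ^ n * g := by
      intro n
      induction n with
      | zero => simp
      | succ n ih =>
        have hc : Commute y r := hry
        calc y ^ (n + 1) * g * (y ^ (n + 1))⁻¹ = y * (y ^ n * g * (y ^ n)⁻¹) * y⁻¹ := by
              rw [pow_succ']; group
          _ = y * (r ^ n * g) * y⁻¹ := by rw [ih]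
          _ = r ^ n * (y * g * y⁻¹) := by
              rw [← mul_assoc, (hc.pow_right n).eq]; group
          _ = r ^ (n + 1) * g := by
              rw [pow_succ, hrdef]; group
    obtain ⟨k, hk⟩ := S.ford
    have h1 : r ^ f ^ k = 1 := by
      have := hit (f ^ k)
      rw [hk, one_mul, inv_one, mul_one] at this
      exact mul_eq_right.mp this.symm
    have h2 : r ^ orderOf g = 1 := by
      have hrH : r ∈ H0 := mul_mem ((Subgroup.mem_normalizer_iff.mp S.nrm g).mp hg) (inv_mem hg)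
      have hc : Commute (y * g * y⁻¹) g⁻¹ :=
        S.comm _ ((Subgroup.mem_normalizer_iff.mp S.nrm g).mp hg) _ (inv_mem hg)
      rw [hrdef, hc.mul_pow, conj_pow, inv_pow, pow_orderOf_eq_one]
      simp
    have h3 := pow_gcd_eq_one.mpr ⟨h1, h2⟩
    rw [show Nat.gcd (f ^ k) (orderOf g) = 1 from
      (S.prime.coprime_iff_not_dvd.mpr hgf).pow_left k, pow_one] at h3
    exact mul_inv_eq_iff_eq_mul.mp (mul_inv_eq_one.mp h3)

/-- With an abelian derived group there is only one nonlinear degree. -/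
theorem degree_eq [Group.IsSolvable G] (hab : ⁅⁅N, N⁆, ⁅N, N⁆⁆ = (⊥ : Subgroup G)) {ψ ψ' : N → ℂ}
    (hψ : Cfsg.IsIrrCharacter N ψ) (h1 : ψ 1 ≠ 1) (hψ' : Cfsg.IsIrrCharacter N ψ') (h1' : ψ' 1 ≠ 1) :
    Cfsg.charDegree ψ = Cfsg.charDegree ψ' := by
  letI := dualAction H0 ⁅N, N⁆
  have := Fintype.ofFinite N
  have := Fintype.ofFinite (commutator N)
  have hcA : ∀ a b : commutator N, a * b = b * a := fun a b => by
    have h := Subgroup.commutator_mem_commutator (eqv N a).2 (eqv N b).2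
    rw [hab, Subgroup.mem_bot, commutatorElement_eq_one_iff_mul_comm] at h
    exact (eqv N).injective (by rw [map_mul, map_mul]; exact Subtype.ext h)
  have key : ∀ χ : N → ℂ, Cfsg.IsIrrCharacter N χ → χ 1 ≠ 1 → ∃ l, l ≠ 1 ∧
      Cfsg.charDegree χ = (MulAction.stabilizer H0 (l : (⁅N, N⁆ : Subgroup G) →* ℂˣ)).index := by
    intro χ hχ hne
    obtain ⟨θ, hθ, hθne⟩ := exists_irr_constituent_restrict (N := commutator N) hχ
    obtain ⟨mu, rfl⟩ := Char.exists_hom_of_degree_one (Char.irr_isCharacter hθ)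
      (Char.irr_degree_one_of_comm hcA hθ)
    have hne1 : mu.comp (eqv N).symm.toMonoidHom ≠ 1 := fun e => by
      have hmu : mu = 1 := MonoidHom.ext fun a => by
        have := DFunLike.congr_fun e (eqv N a)
        rwa [MonoidHom.comp_apply, MulEquiv.coe_toMonoidHom, MulEquiv.symm_apply_apply] at this
      subst hmu
      have hr := restrict_eq_smul_of_invariant hχ hθ (fun g => funext fun n => rfl) hθne
      have hker : ∀ a ∈ commutator N, χ a = χ 1 := fun a ha => by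
        have e1 := congr_fun hr ⟨a, ha⟩
        have e2 := congr_fun hr 1
        simp only [Pi.smul_apply, MonoidHom.one_apply, Units.val_one, OneMemClass.coe_one] at e1 e2
        exact e1.trans e2.symm
      obtain ⟨η, hη, hχη⟩ := Char.isIrr_quotient_lift (commutator N) hχ hker
      have hq : ∀ a b : N ⧸ commutator N, a * b = b * a := fun a b =>
        (inferInstance : CommGroup (Abelianization N)).mul_comm a b
      refine hne ?_
      rw [hχη, Function.comp_apply, map_one, Char.irr_degree_one_of_comm hq hη]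
    refine ⟨mu.comp (eqv N).symm.toMonoidHom, hne1, (S.degree_over hχ hne1 ?_).2⟩
    convert hθne using 2
    funext a
    simp [linFn]
  obtain ⟨l, hl, e⟩ := key ψ hψ h1
  obtain ⟨l', hl', e'⟩ := key ψ' hψ' h1'
  rw [e, e', S.stab_eq l l' hl hl']

end Split

end CfsgLib.BlockB.TwoComp
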