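import Cfsg.Agent.Lib.BlockB.TwoComp.Central
import Cfsg.Agent.Lib.BlockB.TwoComp.Noncentral

/-!
# Quotients of split subgroups, and the single nonlinear degree
-/

set_option autoImplicit false

namespace CfsgLib.BlockB.TwoComp

open CfsgLib CfsgLib.Clifford
open scoped commutatorElement

universe u

variable {G : Type u} [Group G] [Finite G] {N H0 : Subgroup G} [N.Normal] {y : G} {f : ℕ}

namespace Split

variable (S : Split N H0 y f)

include S

/-- The hypotheses pass to the quotient by a normal subgroup inside the derived group. -/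
theorem quotient (X : Subgroup G) [X.Normal] (hX : X ≤ ⁅N, N⁆)
    [(N.map (QuotientGroup.mk' X)).Normal] :
    Split (N.map (QuotientGroup.mk' X)) (H0.map (QuotientGroup.mk' X)) (QuotientGroup.mk' X y) f := by
  set π := QuotientGroup.mk' X with hπ
  have hder : ⁅N.map π, N.map π⁆ = (⁅N, N⁆ : Subgroup G).map π := (Subgroup.map_commutator N N π).symm
  have hker : ∀ g : G, π g = 1 ↔ g ∈ X := fun g => QuotientGroup.eq_one_iff g
  have hinf : ∀ h ∈ H0, h ∈ ⁅N, N⁆ → h = 1 := fun h hh hA =>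
    Subgroup.mem_bot.mp (S.inf ▸ Subgroup.mem_inf.mpr ⟨hA, hh⟩)
  let p : N →* N.map π := π.subgroupMap N
  have hp : Function.Surjective p := π.subgroupMap_surjective N
  have hinfl : ∀ ψ : N.map π → ℂ, Cfsg.IsIrrCharacter (N.map π) ψ → ψ 1 ≠ 1 →
      Cfsg.IsIrrCharacter N (ψ ∘ p) ∧ (ψ ∘ p) 1 ≠ 1 := fun ψ hψ h1 =>
    ⟨Char.isIrrCharacter_comp_surjective hψ p hp, by rwa [Function.comp_apply, map_one]⟩
  refine
    { prime := S.prime
      le := Subgroup.map_mono S.le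
      comm := ?_
      inf := ?_
      sup := by rw [hder, ← Subgroup.map_sup, S.sup]
      nrm := ?_
      ford := ?_
      fmem := ⟨y ^ f, S.fmem, map_pow π y f⟩
      fpf := ?_
      moved := ?_
      inv := ?_
      ndvd := ?_
      nd := ?_ }
  · rintro _ ⟨a, ha, rfl⟩ _ ⟨b, hb, rfl⟩
    rw [← map_mul, ← map_mul, S.comm a ha b hb]
  · rw [hder, eq_bot_iff]
    rintro z ⟨⟨a, ha, rfl⟩, h, hh, e⟩
    have h1 : a⁻¹ * h ∈ X := (hker _).mp (by rw [map_mul, map_inv, e, inv_mul_cancel])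
    have h2 : h ∈ ⁅N, N⁆ := by
      have := mul_mem ha (hX h1)
      rwa [mul_inv_cancel_left] at this
    rw [Subgroup.mem_bot, ← e, hinf h hh h2, map_one]
  · exact (Subgroup.le_normalizer_map (f := π)) ⟨y, S.nrm, rfl⟩
  · obtain ⟨k, hk⟩ := S.ford
    exact ⟨k, by rw [← map_pow, hk, map_one]⟩
  · rintro _ ⟨h, hh, rfl⟩ hne b hb e
    rw [hder] at hb
    obtain ⟨a, ha, rfl⟩ := hb
    have hy : y * h ≠ h * y := fun e' => hne (by rw [← map_mul, ← map_mul, e'])
    have h1 : a⁻¹ * (h * a * h⁻¹) ∈ X := (hker _).mp (by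
      rw [map_mul, map_mul, map_mul, map_inv, map_inv, e, mul_inv_cancel_right, inv_mul_cancel])
    have hinv : ∀ u v : G, u ∈ ⁅N, N⁆ → v ∈ ⁅N, N⁆ →
        u⁻¹ * (h * u * h⁻¹) = v⁻¹ * (h * v * h⁻¹) → u = v := fun u v hu hv e => by
      have e2 : h * (u * v⁻¹) * h⁻¹ = u * v⁻¹ := by
        calc h * (u * v⁻¹) * h⁻¹
            = u * (u⁻¹ * (h * u * h⁻¹)) * (v⁻¹ * (h * v * h⁻¹))⁻¹ * v⁻¹ := by group
          _ = u * v⁻¹ := by rw [e]; group
      exact mul_inv_eq_one.mp (S.fpf h hh hy _ (mul_mem hu (inv_mem hv)) (mul_inv_eq_iff_eq_mul.mp e2))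
    let φ : X → X := fun x =>
      ⟨(x : G)⁻¹ * (h * x * h⁻¹), mul_mem (inv_mem x.2) (Subgroup.Normal.conj_mem inferInstance _ x.2 h)⟩
    have hφ : Function.Injective φ := fun u v e =>
      Subtype.ext (hinv u v (hX u.2) (hX v.2) (congrArg Subtype.val e))
    obtain ⟨x, hx⟩ := (Finite.injective_iff_surjective.mp hφ) ⟨_, h1⟩
    have := hinv x a (hX x.2) ha (congrArg Subtype.val hx)
    exact (hker a).mpr (this ▸ x.2)
  · obtain ⟨g, hg, hgf, hgy⟩ := S.moved
    refine ⟨π g, ⟨g, hg, rfl⟩, fun hd => hgf (hd.trans (orderOf_map_dvd π g)), fun e => hgy ?_⟩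
    have h1 : y * g * y⁻¹ * g⁻¹ ∈ X := (hker _).mp (by
      rw [map_mul, map_mul, map_mul, map_inv, map_inv, e, mul_inv_cancel_right, mul_inv_cancel])
    have h2 : y * g * y⁻¹ * g⁻¹ ∈ H0 :=
      mul_mem ((Subgroup.mem_normalizer_iff.mp S.nrm g).mp hg) (inv_mem hg)
    exact mul_inv_eq_iff_eq_mul.mp (mul_inv_eq_one.mp (hinf _ h2 (hX h1)))
  · intro ψ hψ h1 n
    obtain ⟨n, rfl⟩ := hp n
    have h2 := S.inv _ (hinfl ψ hψ h1).1 (hinfl ψ hψ h1).2 n
    simp only [Function.comp_apply] at h2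
    rw [← h2]
    exact congrArg ψ (Subtype.ext (by simp [p, π]))
  · intro ψ hψ h1
    rw [← Palfy.charDegree_comp_surjective p hp hψ]
    exact S.ndvd _ (hinfl ψ hψ h1).1 (hinfl ψ hψ h1).2
  · intro ψ ψ' hψ h1 hψ' h1' hd
    rw [← Palfy.charDegree_comp_surjective p hp hψ, ← Palfy.charDegree_comp_surjective p hp hψ'] at hd ⊢
    exact S.nd _ _ (hinfl ψ hψ h1).1 (hinfl ψ hψ h1).2 (hinfl ψ' hψ' h1').1 (hinfl ψ' hψ' h1').2 hd

/-- The derived group of `N` is abelian. -/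
theorem derived_comm [Group.IsSolvable G] : ⁅⁅N, N⁆, ⁅N, N⁆⁆ = (⊥ : Subgroup G) := by
  classical
  by_contra hne
  set B : Subgroup G := ⁅⁅N, N⁆, ⁅N, N⁆⁆ with hB
  have : Nonempty {X : Subgroup G // X.Normal ∧ X < B} := ⟨⟨⊥, inferInstance, bot_lt_iff_ne_bot.mpr hne⟩⟩
  obtain ⟨⟨X, hXn, hXB⟩, hmax⟩ :=
    Finite.exists_max fun X : {X : Subgroup G // X.Normal ∧ X < B} => Nat.card (X : Subgroup G)
  have := hXn
  set π := QuotientGroup.mk' X
  have hπ : Function.Surjective π := QuotientGroup.mk'_surjective X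
  have : (N.map π).Normal := Subgroup.Normal.map inferInstance π hπ
  have S' := S.quotient X (hXB.le.trans (Subgroup.commutator_le_right _ _))
  have hB' : ⁅⁅N.map π, N.map π⁆, ⁅N.map π, N.map π⁆⁆ = B.map π := by
    rw [hB, Subgroup.map_commutator, Subgroup.map_commutator]
  have hB'ne : B.map π ≠ ⊥ := fun e => by
    rw [Subgroup.map_eq_bot_iff, QuotientGroup.ker_mk'] at e
    exact hXB.not_ge e
  have hmin : ∀ K : Subgroup (G ⧸ X), K.Normal → K ≤ B.map π → K = ⊥ ∨ K = B.map π := by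
    intro K hK hle
    set Y := K.comap π ⊓ B
    have hXY : X ≤ Y := le_inf (fun x hx => by
      show π x ∈ K
      rw [show π x = 1 from (QuotientGroup.eq_one_iff x).mpr hx]
      exact one_mem K) hXB.le
    have hKY : K = Y.map π := le_antisymm (fun k hk => by
      obtain ⟨b, hb, rfl⟩ := hle hk
      exact ⟨b, ⟨hk, hb⟩, rfl⟩) (Subgroup.map_le_iff_le_comap.mpr inf_le_left)
    rcases eq_or_lt_of_le (inf_le_right : Y ≤ B) with h | h
    · exact Or.inr (hKY.trans (congrArg (Subgroup.map π) h))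
    · refine Or.inl ?_
      have hY : X = Y := Subgroup.eq_of_le_of_card_ge hXY (hmax ⟨Y, inferInstance, h⟩)
      rw [hKY, ← hY, Subgroup.map_eq_bot_iff, QuotientGroup.ker_mk']
  rw [← hB'] at hmin hB'ne
  by_cases hc : ∀ b ∈ ⁅⁅N.map π, N.map π⁆, ⁅N.map π, N.map π⁆⁆, ∀ a ∈ ⁅N.map π, N.map π⁆, a * b = b * a
  · exact S'.false_of_central hB'ne hc
  · exact S'.false_of_noncentral hB'ne hmin hc

/-- There is only one nonlinear degree. -/
theorem degree_eq_all [Group.IsSolvable G] {ψ ψ' : N → ℂ}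
    (hψ : Cfsg.IsIrrCharacter N ψ) (h1 : ψ 1 ≠ 1) (hψ' : Cfsg.IsIrrCharacter N ψ') (h1' : ψ' 1 ≠ 1) :
    Cfsg.charDegree ψ = Cfsg.charDegree ψ' :=
  S.degree_eq S.derived_comm hψ h1 hψ' h1'

end Split

end CfsgLib.BlockB.TwoComp
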