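import Cfsg.Agent.Lib.BlockB.TwoComp.AbelianAction

/-!
# A twisted automorphism fixing every orbit of a semiregular abelian group
-/

set_option autoImplicit false

namespace CfsgLib.BlockB.TwoComp

universe u v

variable {H : Type u} [Group H] {W : Type v} [CommGroup W] [MulDistribMulAction H W]

/-- `τ` is `σ`-semilinear, preserves all orbits, has prime period `f` prime to the orbit length,
and `σ` is nontrivial modulo the common stabiliser `R`. -/
structure Semi (σ : H ≃* H) (τ : W ≃* W) (R : Subgroup H) (f : ℕ) : Prop where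
  hc : ∀ a b : H, a * b = b * a
  stab : ∀ w : W, w ≠ 1 → MulAction.stabilizer H w = R
  semi : ∀ (h : H) (w : W), τ (h • w) = σ h • τ w
  orb : ∀ w : W, w ≠ 1 → ∃ h : H, τ w = h • w
  prime : f.Prime
  per : ∀ w : W, τ^[f] w = w
  ndvd : ¬ f ∣ R.index
  nontriv : ∃ g : H, σ g * g⁻¹ ∉ R
  nontrivW : Nontrivial W

/-- The vectors fixed by `τ`. -/
def fixPt (τ : W ≃* W) : Subgroup W := τ.toMonoidHom.eqLocus (MonoidHom.id W)

namespace Semi

variable {σ : H ≃* H} {τ : W ≃* W} {R : Subgroup H} {f : ℕ} (S : Semi σ τ R f)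

include S

theorem smul_eq {a : H} (ha : a ∈ R) (w : W) : a • w = w := by
  rcases eq_or_ne w 1 with rfl | hw
  · exact smul_one a
  · exact MulAction.mem_stabilizer_iff.mp ((S.stab w hw).ge ha)

theorem mem_of_smul_eq {a : H} {w : W} (hw : w ≠ 1) (h : a • w = w) : a ∈ R :=
  (S.stab w hw).le (MulAction.mem_stabilizer_iff.mpr h)

theorem map_mem {a : H} (ha : a ∈ R) : σ a ∈ R := by
  obtain ⟨w, hw⟩ := @exists_ne W S.nontrivW 1
  refine S.mem_of_smul_eq (w := τ w) (fun e => hw (τ.injective (by rw [e, map_one]))) ?_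
  rw [← S.semi, S.smul_eq ha]

theorem normal : R.Normal := ⟨fun x hx g => by rwa [S.hc g x, mul_inv_cancel_right]⟩

/-- `h ↦ σ h / h`. -/
def twist : H →* H where
  toFun h := σ h * h⁻¹
  map_one' := by simp
  map_mul' a b := by
    rw [map_mul, mul_inv_rev, S.hc b⁻¹ a⁻¹, ← mul_assoc, mul_assoc (σ a), S.hc (σ b) a⁻¹,
      ← mul_assoc, mul_assoc]

theorem twist_apply (h : H) : S.twist h = σ h * h⁻¹ := rfl

/-- The elements fixed by `σ` modulo `R`. -/
def fixed : Subgroup H := R.comap S.twist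

theorem le_fixed : R ≤ S.fixed := fun _ ha => R.mul_mem (S.map_mem ha) (R.inv_mem ha)

theorem smul_sigma {c : H} (hc : c ∈ S.fixed) (w : W) : σ c • w = c • w := by
  rw [show σ c = σ c * c⁻¹ * c by group, mul_smul]
  exact S.smul_eq hc _

theorem mem_of_pow_mem {a : H} (h : a ^ f ∈ R) : a ∈ R := by
  have := S.normal
  have h1 : a ^ R.index ∈ R := R.pow_index_mem a
  rw [← QuotientGroup.eq_one_iff, QuotientGroup.mk_pow] at h h1
  rw [← QuotientGroup.eq_one_iff]
  have := pow_gcd_eq_one.mpr ⟨h, h1⟩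
  rwa [show Nat.gcd f R.index = 1 from S.prime.coprime_iff_not_dvd.mpr S.ndvd, pow_one] at this

theorem iterate_smul (n : ℕ) (h : H) (w : W) : τ^[n] (h • w) = σ^[n] h • τ^[n] w := by
  induction n with
  | zero => rfl
  | succ n ih =>
    rw [Function.iterate_succ_apply', Function.iterate_succ_apply', Function.iterate_succ_apply',
      ih, S.semi]

/-- The period kills the fixed elements that move a `τ`-orbit along. -/
theorem mem_of_tau {c : H} (hc : c ∈ S.fixed) {w : W} (hw : w ≠ 1) (h : τ w = c • w) : c ∈ R := by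
  have hiter : ∀ n : ℕ, τ^[n] w = c ^ n • w := by
    intro n
    induction n with
    | zero => simp
    | succ n ih =>
      rw [Function.iterate_succ_apply', ih, S.semi, h, S.smul_sigma (pow_mem hc n), ← mul_smul,
        pow_succ]
  exact S.mem_of_pow_mem (S.mem_of_smul_eq hw ((hiter f).symm.trans (S.per w)))

theorem sigma_period (k : H) : σ^[f] k * k⁻¹ ∈ R := by
  obtain ⟨w, hw⟩ := @exists_ne W S.nontrivW 1
  have h1 := S.iterate_smul f k w
  rw [S.per, S.per] at h1
  refine S.mem_of_smul_eq (w := k • w) (fun e => hw (by simpa using congrArg (k⁻¹ • ·) e)) ?_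
  rw [← mul_smul, inv_mul_cancel_right, ← h1]

theorem twist_twist {k : H} (h : S.twist (S.twist k) ∈ R) : S.twist k ∈ R := by
  refine S.mem_of_pow_mem ?_
  have hd : S.twist k ∈ S.fixed := h
  obtain ⟨w, hw⟩ := @exists_ne W S.nontrivW 1
  have hit : ∀ n : ℕ, σ^[n] k • w = S.twist k ^ n • k • w := by
    intro n
    induction n with
    | zero => simp
    | succ n ih =>
      have e : σ^[n + 1] k • τ w = S.twist k ^ (n + 1) • k • τ w := by
        have h2 := congrArg τ ih
        rw [S.semi, S.semi, S.semi, S.smul_sigma (pow_mem hd n)] at h2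
        rw [Function.iterate_succ_apply', h2, pow_succ, mul_smul]
        congr 1
        rw [← mul_smul, S.twist_apply, inv_mul_cancel_right]
      obtain ⟨h₀, hh₀⟩ := S.orb w hw
      rw [hh₀, ← mul_smul, ← mul_smul, ← mul_smul, S.hc _ h₀, S.hc _ h₀,
        mul_smul, mul_smul, smul_left_cancel_iff] at e
      rwa [← mul_smul]
  refine S.mem_of_smul_eq (w := k • w) (fun e => hw (by simpa using congrArg (k⁻¹ • ·) e)) ?_
  rw [← hit f, show σ^[f] k = σ^[f] k * k⁻¹ * k by group, mul_smul, S.smul_eq (S.sigma_period k)]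

variable [Finite H]

theorem decomp (h : H) : ∃ (k : H) (c : H), c ∈ S.fixed ∧ h = S.twist k * c := by
  have hn : S.fixed.Normal := ⟨fun x hx g => by rwa [S.hc g x, mul_inv_cancel_right]⟩
  let Ψ : H ⧸ S.fixed →* H ⧸ S.fixed :=
    QuotientGroup.lift S.fixed ((QuotientGroup.mk' S.fixed).comp S.twist) fun a ha => by
      rw [MonoidHom.mem_ker, MonoidHom.comp_apply, QuotientGroup.mk'_apply, QuotientGroup.eq_one_iff]
      exact S.le_fixed ha
  have hi : Function.Injective Ψ := by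
    rw [← MonoidHom.ker_eq_bot_iff, eq_bot_iff]
    intro x hx
    obtain ⟨x, rfl⟩ := QuotientGroup.mk_surjective x
    rw [Subgroup.mem_bot, QuotientGroup.eq_one_iff]
    exact S.twist_twist (show S.twist x ∈ S.fixed from (QuotientGroup.eq_one_iff _).mp (MonoidHom.mem_ker.mp hx))
  obtain ⟨x, hx⟩ := (Finite.injective_iff_surjective.mp hi) (h : H ⧸ S.fixed)
  obtain ⟨k, rfl⟩ := QuotientGroup.mk_surjective x
  refine ⟨k, (S.twist k)⁻¹ * h, QuotientGroup.eq.mp hx, (mul_inv_cancel_left _ _).symm⟩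

/-- Every orbit meets the fixed points of `τ`. -/
theorem exists_fix {w : W} (hw : w ≠ 1) : ∃ k : H, τ (k • w) = k • w := by
  obtain ⟨h, hh⟩ := S.orb w hw
  obtain ⟨k, c, hc, rfl⟩ := S.decomp h
  refine ⟨k⁻¹, ?_⟩
  have e : τ (k⁻¹ • w) = c • k⁻¹ • w := by
    rw [S.semi, hh, ← mul_smul, ← mul_smul, map_inv, S.twist_apply, S.hc c k⁻¹]
    congr 1
    group
  rw [e, S.smul_eq (S.mem_of_tau hc (fun e' => hw (by simpa using congrArg (k • ·) e')) e)]

theorem fixed_ne_top : S.fixed ≠ ⊤ := fun e => by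
  obtain ⟨g, hg⟩ := S.nontriv
  exact hg (e.ge (Subgroup.mem_top g))

theorem mem_fixed_of_fix {k : H} {a : W} (ha1 : a ≠ 1) (ha : τ a = a) (hka : τ (k • a) = k • a) :
    k ∈ S.fixed := by
  rw [S.semi, ha] at hka
  refine S.mem_of_smul_eq (w := k • a) (fun e => ha1 (by simpa using congrArg (k⁻¹ • ·) e)) ?_
  rw [← mul_smul, S.twist_apply, inv_mul_cancel_right]
  exact hka

theorem count [Finite W] :
    S.fixed.index * (Nat.card (fixPt τ) - 1) = Nat.card W - 1 := by
  classical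
  have hcard : ∀ (U : Type v) [Group U] [Finite U], Nat.card {a : U // a ≠ 1} = Nat.card U - 1 := by
    intro U _ _
    have := Fintype.ofFinite U
    rw [Nat.card_eq_fintype_card, Nat.card_eq_fintype_card, Fintype.card_subtype_compl,
      Fintype.card_subtype_eq]
  rw [← hcard (fixPt τ), ← hcard W, Subgroup.index_eq_card, ← Nat.card_prod]
  refine Nat.card_eq_of_bijective
    (fun x : (H ⧸ S.fixed) × {a : fixPt τ // a ≠ 1} => (⟨x.1.out • (x.2.1 : W), fun e =>
      x.2.2 (Subtype.ext (by simpa using congrArg (x.1.out⁻¹ • ·) e))⟩ : {w : W // w ≠ 1}))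
    ⟨fun x y e => ?_, fun w => ?_⟩
  · obtain ⟨q₁, ⟨⟨a₁, ha₁⟩, hne₁⟩⟩ := x
    obtain ⟨q₂, ⟨⟨a₂, ha₂⟩, hne₂⟩⟩ := y
    have e' : q₁.out • a₁ = q₂.out • a₂ := congrArg Subtype.val e
    have e2 : (q₂.out⁻¹ * q₁.out) • a₁ = a₂ := by rw [mul_smul, e', inv_smul_smul]
    have hq : q₂ = q₁ := by
      rw [← QuotientGroup.out_eq' q₁, ← QuotientGroup.out_eq' q₂, QuotientGroup.eq]
      exact S.mem_fixed_of_fix (fun h => hne₁ (Subtype.ext h)) ha₁ (by rw [e2]; exact ha₂)
    subst hq
    have := smul_left_cancel _ e'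
    subst this
    rfl
  · obtain ⟨k, hk⟩ := S.exists_fix w.2
    obtain ⟨c, hc⟩ : ∃ c ∈ S.fixed, (k⁻¹ : H) = (QuotientGroup.mk k⁻¹ : H ⧸ S.fixed).out * c :=
      ⟨(QuotientGroup.mk k⁻¹ : H ⧸ S.fixed).out⁻¹ * k⁻¹,
        QuotientGroup.eq.mp (QuotientGroup.out_eq' _), by group⟩
    have hfix : τ (c • k • (w : W)) = c • k • (w : W) := by
      rw [S.semi, hk, S.smul_sigma hc.1]
    refine ⟨(QuotientGroup.mk k⁻¹, ⟨⟨c • k • (w : W), hfix⟩, fun e => w.2 ?_⟩), Subtype.ext ?_⟩
    · have e' : c • k • (w : W) = 1 := congrArg Subtype.val e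
      rw [← mul_smul] at e'
      have h' := congrArg ((c * k)⁻¹ • ·) e'
      simp only [inv_smul_smul, smul_one] at h'
      exact h'
    · show (QuotientGroup.mk k⁻¹ : H ⧸ S.fixed).out • c • k • (w : W) = w
      rw [← mul_smul, ← hc.2, inv_smul_smul]

theorem sq_le [Finite W] : Nat.card (fixPt τ) * Nat.card (fixPt τ) ≤ Nat.card W := by
  obtain ⟨g, hg⟩ := S.nontriv
  rw [← Nat.card_prod]
  refine Nat.card_le_card_of_injective (fun x : fixPt τ × fixPt τ => (x.1 : W) * g • (x.2 : W)) ?_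
  rintro ⟨a, b⟩ ⟨a', b'⟩ e
  have e' : g • ((b : W) / b') = (a' : W) / a := by
    have e1 : (a : W) * g • (b : W) = a' * g • (b' : W) := e
    rw [smul_div', div_eq_div_iff_mul_eq_mul, mul_comm, e1]
  have hb : (b : W) / b' = 1 := by
    by_contra hne
    refine hg (S.mem_fixed_of_fix hne (map_div τ (b : W) b' ▸ by rw [show τ (b : W) = b from b.2, show τ (b' : W) = b' from b'.2]) ?_)
    rw [e', map_div, show τ (a : W) = a from a.2, show τ (a' : W) = a' from a'.2]
  rw [hb, smul_one] at e'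
  exact Prod.ext (Subtype.ext (div_eq_one.mp e'.symm).symm) (Subtype.ext (div_eq_one.mp hb))

/-- `W` is a group of prime power order. -/
theorem exists_isPGroup [Finite W] : ∃ l : ℕ, l.Prime ∧ IsPGroup l W := by
  have hco : ∀ v w : W, v ≠ 1 → w ≠ 1 → (orderOf v).Coprime (orderOf w) → False := by
    intro v w hv hw hvw
    obtain ⟨g, hg⟩ := S.nontriv
    have key : ∀ (x : W), x ≠ 1 → (orderOf x).Coprime (orderOf w) →
        ∀ hx hy : H, τ x = hx • x → τ w = hy • w → hx * hy⁻¹ ∈ R := by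
      intro x hx1 hco hx hy ex ey
      have hne : x * w ≠ 1 := fun e => hx1 (orderOf_eq_one_iff.mp (by
        have : x = w⁻¹ := eq_inv_of_mul_eq_one_left e
        rw [this, orderOf_inv, Nat.coprime_self] at hco
        rwa [this, orderOf_inv]))
      obtain ⟨h, hh⟩ := S.orb _ hne
      rw [map_mul, ex, ey, smul_mul'] at hh
      have e1 : hx • x / h • x = h • w / hy • w := by
        rw [div_eq_div_iff_mul_eq_mul, hh, mul_comm]
      have hord : ∀ (a b : H) (z : W), (a • z / b • z) ^ orderOf z = 1 := fun a b z => by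
        rw [div_pow, ← smul_pow', ← smul_pow', pow_orderOf_eq_one, smul_one, smul_one, div_one]
      have h1 : hx • x / h • x = 1 := by
        have := pow_gcd_eq_one.mpr ⟨hord hx h x, e1 ▸ hord h hy w⟩
        rwa [hco, pow_one] at this
      have h2 : h • w / hy • w = 1 := e1 ▸ h1
      have r1 : h⁻¹ * hx ∈ R := S.mem_of_smul_eq hx1 (by
        rw [mul_smul, div_eq_one.mp h1, inv_smul_smul])
      have r2 : hy⁻¹ * h ∈ R := S.mem_of_smul_eq hw (by
        rw [mul_smul, div_eq_one.mp h2, inv_smul_smul])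
      have := R.mul_mem r2 r1
      rw [mul_assoc, mul_inv_cancel_left] at this
      rwa [S.hc]
    obtain ⟨hv', ev⟩ := S.orb v hv
    obtain ⟨hw', ew⟩ := S.orb w hw
    have hgv : g • v ≠ 1 := fun e => hv (by simpa using congrArg (g⁻¹ • ·) e)
    have ho : (orderOf (g • v)).Coprime (orderOf w) :=
      hvw.coprime_dvd_left (orderOf_dvd_of_pow_eq_one
        (by rw [← smul_pow', pow_orderOf_eq_one, smul_one]))
    have r1 := key v hv hvw hv' hw' ev ew
    have egv : τ (g • v) = (σ g * g⁻¹ * hv') • g • v := by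
      rw [S.semi, ev, ← mul_smul, ← mul_smul]
      congr 1
      rw [mul_assoc (σ g * g⁻¹), S.hc hv' g, ← mul_assoc, inv_mul_cancel_right]
    have r2 := key _ hgv ho _ hw' egv ew
    rw [mul_assoc] at r2
    exact hg ((R.mul_mem_cancel_right r1).mp r2)
  have := S.nontrivW
  obtain ⟨l, hl, hd⟩ := Nat.exists_prime_and_dvd (Finite.one_lt_card (α := W)).ne'
  have : Fact l.Prime := ⟨hl⟩
  obtain ⟨v, hv⟩ := exists_prime_orderOf_dvd_card' l hd
  refine ⟨l, hl, IsPGroup.of_card (n := (Nat.card W).primeFactorsList.length)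
    (Nat.eq_prime_pow_of_unique_prime_dvd Nat.card_pos.ne' fun {d} hdp hdd => ?_)⟩
  by_contra hne
  have : Fact d.Prime := ⟨hdp⟩
  obtain ⟨w, hw⟩ := exists_prime_orderOf_dvd_card' d hdd
  refine hco v w (fun e => hl.ne_one (by rw [← hv, e, orderOf_one]))
    (fun e => hdp.ne_one (by rw [← hw, e, orderOf_one])) ?_
  rw [hv, hw]
  exact (Nat.coprime_primes hl hdp).mpr (Ne.symm hne)

end Semi

/-- The arithmetic ending the central case. -/
theorem false_of_counts {l n a b u : ℕ} (hl : 1 < l) (ha : 0 < a) (han : 2 * a ≤ n)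
    (hu : u * (l ^ a - 1) = l ^ n - 1) (hb0 : 0 < b) (hbn : b < n) (hub : u ∣ l ^ b - 1) : False := by
  have h1 : u ∣ l ^ n.gcd b - 1 := by
    rw [← Nat.pow_sub_one_gcd_pow_sub_one]
    exact Nat.dvd_gcd ⟨_, hu.symm⟩ hub
  have hd : 2 * n.gcd b ≤ n := by
    obtain ⟨k, hk⟩ := Nat.gcd_dvd_left n b
    have h2 : n.gcd b ≤ b := Nat.le_of_dvd hb0 (Nat.gcd_dvd_right n b)
    rcases k with - | - | k
    · omega
    · omega
    · nlinarith
  have hd0 : 0 < n.gcd b := Nat.gcd_pos_of_pos_right n hb0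
  have h3 : u ≤ l ^ n.gcd b - 1 :=
    Nat.le_of_dvd (Nat.sub_pos_of_lt (Nat.one_lt_pow hd0.ne' hl)) h1
  have h4 : l ^ n.gcd b ≤ l ^ (n - a) := Nat.pow_le_pow_right (by omega) (by omega)
  have h5 : l ^ (n - a) * l ^ a = l ^ n := by rw [← pow_add, Nat.sub_add_cancel (by omega)]
  have h6 : 1 < l ^ (n - a) := Nat.one_lt_pow (by omega) hl
  have h9 : l ^ (n - a) ≤ l ^ n := Nat.pow_le_pow_right (by omega) (Nat.sub_le n a)
  have h10 : l ^ a ≤ l ^ n := Nat.pow_le_pow_right (by omega) (by omega)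
  have h7 : 1 < l ^ a := Nat.one_lt_pow ha.ne' hl
  have h8 : u * (l ^ a - 1) ≤ (l ^ (n - a) - 1) * (l ^ a - 1) := Nat.mul_le_mul_right _ (by omega)
  rw [hu, Nat.sub_mul, Nat.mul_sub, h5, mul_one, one_mul] at h8
  omega

end CfsgLib.BlockB.TwoComp
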